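import Cfsg.Agent.EvenType.ChevTwoTits
import Cfsg.Agent.TitsK.ParC_m3
import Mathlib
import Cfsg.Agent.PermutationGroups.NoIndexTwo
import Cfsg.Agent.Mrg.Omega.TwoF.Tits
import Cfsg.Agent.CpAutTits.Known
import Cfsg.Agent.S0144
import Cfsg.Agent.FastGrp
import Cfsg.Agent.Prune
set_option linter.all false

section
prune_inst 0x7f00000000000000000000000000000000000000000000000000000000000000000000000000000000000000000000000000000000000000000000000000000000000000000000000000000000000000003fffffffffffffffffffffffffffbeffbdffffffff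

-- part: CpAutTits/Row
section
set_option linter.all false
open scoped Cfsg.Agent.FastGrp

-- merged: Cfsg.Agent.CpAutTits.Ten
section

/-!
# Commuting elements of orders two and five of the Tits group (helper73)

`ten` : `|C(y) ∩ C(i)| = 10`.
-/

set_option autoImplicit false

namespace Cfsg.Agent.CpAutTits.Ten

open Subgroup
open Cfsg.Agent.TitsK
open Cfsg.Agent.FourTwo.Base (LL)

universe u v

section equiv

variable {X : Type u} {Y : Type v} [Group X] [Group Y]

theorem card_inf_equiv (e : X ≃* Y) (y i : X) :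
    Nat.card ↥(centralizer ({e y} : Set Y) ⊓ centralizer ({e i} : Set Y)) =
      Nat.card ↥(centralizer ({y} : Set X) ⊓ centralizer ({i} : Set X)) := by
  have h : (centralizer ({y} : Set X) ⊓ centralizer ({i} : Set X)).map e.toMonoidHom =
      centralizer ({e y} : Set Y) ⊓ centralizer ({e i} : Set Y) := by
    ext b
    constructor
    · rintro ⟨a, ⟨h1, h2⟩, rfl⟩
      refine ⟨mem_centralizer_singleton_iff.2 ?_, mem_centralizer_singleton_iff.2 ?_⟩
      · change e a * e y = e y * e a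
        rw [← map_mul, mem_centralizer_singleton_iff.1 h1, map_mul]
      · change e a * e i = e i * e a
        rw [← map_mul, mem_centralizer_singleton_iff.1 h2, map_mul]
    · rintro ⟨h1, h2⟩
      refine ⟨e.symm b, ⟨mem_centralizer_singleton_iff.2 ?_, mem_centralizer_singleton_iff.2 ?_⟩,
        e.apply_symm_apply b⟩
      · apply e.injective
        rw [map_mul, map_mul, e.apply_symm_apply]
        exact mem_centralizer_singleton_iff.1 h1
      · apply e.injective
        rw [map_mul, map_mul, e.apply_symm_apply]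
        exact mem_centralizer_singleton_iff.1 h2
  rw [← h]
  exact (Nat.card_congr ((centralizer ({y} : Set X) ⊓ centralizer ({i} : Set X)).equivMapOfInjective
    e.toMonoidHom e.injective).toEquiv).symm

end equiv

/-- the facts used, for an abstract group -/
structure Facts {L : Type u} [Group L] (T : Subgroup L) (xf z jf d : L) : Prop where
  hx : xf ∈ T
  hz : z ∈ T
  hd : d ∈ T
  x5 : xf ^ 5 = 1
  x1 : xf ≠ 1
  z2 : z ^ 2 = 1
  z1 : z ≠ 1
  comm : xf * z = z * xf
  jsq : jf * jf = z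
  jnot : jf ∉ T
  cent : ∀ p ∈ T, p * z = z * p → p * xf = xf * p → ∃ k l m : ℕ, p = xf ^ k * z ^ l * jf ^ m
  syl : ∀ y ∈ T, y * z = z * y → y ^ 5 = 1 → ∃ u ∈ T, u * z * u⁻¹ = z ∧ ∃ k : ℕ, y = u * xf ^ k * u⁻¹
  invol : ∀ a ∈ T, a * a = 1 → a ≠ 1 → (∃ t ∈ T, t * a * t⁻¹ = z) ∨ (∃ t ∈ T, t * a * t⁻¹ = d)
  five : ∀ g ∈ T, g ^ 5 = 1 → g * d * g⁻¹ = d → g = 1

namespace Facts

variable {L : Type u} [Group L] {T : Subgroup L} {xf z jf d : L} (F : Facts T xf z jf d)

/-- the elements of the Tits group -/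
def xT : ↥T := ⟨xf, F.hx⟩
/-- the elements of the Tits group -/
def zT : ↥T := ⟨z, F.hz⟩

theorem order_x : orderOf F.xT = 5 := by
  have : Fact (Nat.Prime 5) := ⟨by norm_num⟩
  exact orderOf_eq_prime (Subtype.ext F.x5) fun h => F.x1 (congrArg Subtype.val h)

theorem order_z : orderOf F.zT = 2 := by
  have : Fact (Nat.Prime 2) := ⟨Nat.prime_two⟩
  exact orderOf_eq_prime (Subtype.ext F.z2) fun h => F.z1 (congrArg Subtype.val h)

theorem comm_zx : F.zT * F.xT = F.xT * F.zT := Subtype.ext F.comm.symm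

include F in
theorem jpow (m : ℕ) (hjm : jf ^ m ∈ T) : ∃ n, jf ^ m = z ^ n := by
  refine ⟨m / 2, ?_⟩
  rcases Nat.even_or_odd m with hm | hm
  · obtain ⟨n, rfl⟩ := hm
    rw [← two_mul, Nat.mul_div_cancel_left _ (by norm_num), pow_mul, pow_two, F.jsq]
  · exfalso
    obtain ⟨n, rfl⟩ := hm
    apply F.jnot
    have h4 : jf = (z ^ n)⁻¹ * jf ^ (2 * n + 1) := by
      rw [pow_succ, pow_mul, pow_two, F.jsq]
      group
    rw [h4]
    exact T.mul_mem (T.inv_mem (T.pow_mem F.hz n)) hjm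

theorem w6 : (F.xT * F.zT) ^ 6 = F.xT := by
  rw [(show Commute F.xT F.zT from F.comm_zx.symm).mul_pow]
  have h1 : F.xT ^ 6 = F.xT := by
    have h := F.order_x
    rw [pow_succ, orderOf_dvd_iff_pow_eq_one.1 (show orderOf F.xT ∣ 5 by rw [h]), one_mul]
  have h2 : F.zT ^ 6 = 1 := orderOf_dvd_iff_pow_eq_one.1 (by rw [F.order_z]; norm_num)
  rw [h1, h2, mul_one]

theorem w5 : (F.xT * F.zT) ^ 5 = F.zT := by
  rw [(show Commute F.xT F.zT from F.comm_zx.symm).mul_pow]
  have h1 : F.xT ^ 5 = 1 := orderOf_dvd_iff_pow_eq_one.1 (by rw [F.order_x])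
  have h2 : F.zT ^ 5 = F.zT := by
    rw [pow_succ, orderOf_dvd_iff_pow_eq_one.1 (show orderOf F.zT ∣ 4 by rw [F.order_z]; norm_num), one_mul]
  rw [h1, h2, one_mul]

theorem ten_base : Nat.card ↥(centralizer ({F.xT} : Set ↥T) ⊓ centralizer ({F.zT} : Set ↥T)) = 10 := by
  have hx : F.xT ∈ zpowers (F.xT * F.zT) := by
    have h1 : (F.xT * F.zT) ^ 6 ∈ zpowers (F.xT * F.zT) := pow_mem (mem_zpowers _) 6
    rwa [F.w6] at h1
  have hz : F.zT ∈ zpowers (F.xT * F.zT) := by
    have h1 : (F.xT * F.zT) ^ 5 ∈ zpowers (F.xT * F.zT) := pow_mem (mem_zpowers _) 5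
    rwa [F.w5] at h1
  have h : centralizer ({F.xT} : Set ↥T) ⊓ centralizer ({F.zT} : Set ↥T) = zpowers (F.xT * F.zT) := by
    apply le_antisymm
    · rintro p ⟨h1, h2⟩
      have h1' : (p : L) * xf = xf * p := congrArg Subtype.val (mem_centralizer_singleton_iff.1 h1)
      have h2' : (p : L) * z = z * p := congrArg Subtype.val (mem_centralizer_singleton_iff.1 h2)
      obtain ⟨k, l, m, hp⟩ := F.cent p p.2 h2' h1'
      have hjm : jf ^ m ∈ T := by
        have h3 : jf ^ m = (xf ^ k * z ^ l)⁻¹ * p := by rw [hp]; group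
        rw [h3]
        exact T.mul_mem (T.inv_mem (T.mul_mem (T.pow_mem F.hx k) (T.pow_mem F.hz l))) p.2
      obtain ⟨n, hn⟩ := F.jpow m hjm
      have h4 : p = F.xT ^ k * F.zT ^ l * F.zT ^ n := by
        apply Subtype.ext
        rw [hp, hn]
        rfl
      rw [h4]
      exact mul_mem (mul_mem (pow_mem hx k) (pow_mem hz l)) (pow_mem hz n)
    · rw [zpowers_le]
      refine ⟨mem_centralizer_singleton_iff.2 ?_, mem_centralizer_singleton_iff.2 ?_⟩
      · rw [mul_assoc, F.comm_zx]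
      · rw [← mul_assoc, F.comm_zx]
  rw [h, Nat.card_zpowers, (show Commute F.xT F.zT from F.comm_zx.symm).orderOf_mul_eq_mul_orderOf_of_coprime
    (by rw [F.order_x, F.order_z]; norm_num), F.order_x, F.order_z]

theorem ten_z {y : ↥T} (hy : orderOf y = 5) (hc : F.zT * y = y * F.zT) :
    Nat.card ↥(centralizer ({y} : Set ↥T) ⊓ centralizer ({F.zT} : Set ↥T)) = 10 := by
  have hc' : (y : L) * z = z * y := (congrArg Subtype.val hc).symm
  have hy5 : (y : L) ^ 5 = 1 := by
    have h1 : y ^ 5 = 1 := orderOf_dvd_iff_pow_eq_one.1 (by rw [hy])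
    exact congrArg Subtype.val h1
  obtain ⟨u, hu, huz, k, hk⟩ := F.syl y y.2 hc' hy5
  let u' : ↥T := ⟨u, hu⟩
  have hyk : y = u' * F.xT ^ k * u'⁻¹ := Subtype.ext hk
  have hzu : u' * F.zT * u'⁻¹ = F.zT := Subtype.ext huz
  have hk5 : ¬ 5 ∣ k := by
    rintro ⟨n, rfl⟩
    have h1 : F.xT ^ (5 * n) = 1 := orderOf_dvd_iff_pow_eq_one.1 (by rw [F.order_x]; exact Dvd.intro _ rfl)
    rw [h1, mul_one, mul_inv_cancel] at hyk
    rw [hyk, orderOf_one] at hy
    omega
  have hx : F.xT ∈ zpowers (F.xT ^ k) := by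
    have h1 : Nat.Coprime (orderOf F.xT) k := by
      rw [F.order_x]
      exact (Nat.Prime.coprime_iff_not_dvd (by norm_num)).2 hk5
    obtain ⟨m, hm⟩ := exists_pow_eq_self_of_coprime h1.symm
    exact mem_zpowers_iff.2 ⟨m, by rw [zpow_natCast]; exact hm⟩
  have hcent : centralizer ({F.xT ^ k} : Set ↥T) = centralizer ({F.xT} : Set ↥T) := by
    ext p
    rw [mem_centralizer_singleton_iff, mem_centralizer_singleton_iff]
    constructor
    · intro h1
      obtain ⟨m, hm⟩ := mem_zpowers_iff.1 hx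
      rw [← hm]
      exact ((show Commute p (F.xT ^ k) from h1).zpow_right m)
    · intro h1
      exact ((show Commute p F.xT from h1).pow_right k)
  have h1 := card_inf_equiv (MulAut.conj u') (F.xT ^ k) F.zT
  rw [MulAut.conj_apply, MulAut.conj_apply, hzu, ← hyk, hcent, F.ten_base] at h1
  exact h1

include F in
theorem ten (y : ↥T) (hy : orderOf y = 5) (i : ↥T) (hi : orderOf i = 2) (hc : i * y = y * i) :
    Nat.card ↥(centralizer ({y} : Set ↥T) ⊓ centralizer ({i} : Set ↥T)) = 10 := by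
  have hi2 : i * i = 1 := by
    rw [← pow_two]
    exact orderOf_dvd_iff_pow_eq_one.1 (by rw [hi])
  have hi1 : (i : L) ≠ 1 := by
    intro h
    have h1 : i = 1 := Subtype.ext h
    rw [h1, orderOf_one] at hi
    omega
  have hconj : ∀ t : ↥T, orderOf (t * y * t⁻¹) = 5 := fun t => by
    rw [← hy]
    exact orderOf_injective (MulAut.conj t).toMonoidHom (MulAut.conj t).injective y
  rcases F.invol (i : L) i.2 (congrArg Subtype.val hi2) hi1 with ⟨t, ht, h⟩ | ⟨t, ht, h⟩
  · let t' : ↥T := ⟨t, ht⟩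
    have h' : t' * i * t'⁻¹ = F.zT := Subtype.ext h
    have h1 := card_inf_equiv (MulAut.conj t') y i
    rw [MulAut.conj_apply, MulAut.conj_apply, h'] at h1
    rw [← h1]
    apply F.ten_z (hconj t')
    rw [← h']
    calc t' * i * t'⁻¹ * (t' * y * t'⁻¹) = t' * (i * y) * t'⁻¹ := by group
      _ = t' * (y * i) * t'⁻¹ := by rw [hc]
      _ = t' * y * t'⁻¹ * (t' * i * t'⁻¹) := by group
  · exfalso
    let t' : ↥T := ⟨t, ht⟩
    have h0 : t' * i * t'⁻¹ = (⟨d, F.hd⟩ : ↥T) := Subtype.ext h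
    have h5 : (t' * y * t'⁻¹) ^ 5 = 1 := orderOf_dvd_iff_pow_eq_one.1 (by rw [hconj t'])
    have h2 : (t' * y * t'⁻¹) * (t' * i * t'⁻¹) * (t' * y * t'⁻¹)⁻¹ = t' * i * t'⁻¹ := by
      calc (t' * y * t'⁻¹) * (t' * i * t'⁻¹) * (t' * y * t'⁻¹)⁻¹ = t' * (y * i) * y⁻¹ * t'⁻¹ := by group
        _ = t' * (i * y) * y⁻¹ * t'⁻¹ := by rw [hc]
        _ = t' * i * t'⁻¹ := by group
    rw [h0] at h2
    have h3 := F.five ((t' * y * t'⁻¹ : ↥T) : L) (t' * y * t'⁻¹).2 (congrArg Subtype.val h5)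
      (congrArg Subtype.val h2)
    have h4 : t' * y * t'⁻¹ = 1 := Subtype.ext h3
    have h6 := hconj t'
    rw [h4, orderOf_one] at h6
    omega

end Facts

theorem facts : Facts TT xf z jf d where
  hx := xf_mem_TT
  hz := z_mem_TT
  hd := d_mem_TT
  x5 := xf_pow5
  x1 := xf_ne
  z2 := (pow_two z).trans z_sq
  z1 := z_ne
  comm := z_comm_xf
  jsq := jf_sq
  jnot := jf_not_mem
  cent p hp hz hx := cent_xf (mem_Pz.2 ⟨TT_le hp, by rw [hz, mul_inv_cancel_right]⟩) hx
  syl y hy hz h5 := by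
    have hP : y ∈ Pz := mem_Pz.2 ⟨TT_le hy, by rw [hz, mul_inv_cancel_right]⟩
    obtain ⟨u, hu, k, hk⟩ := syl5 (mem_EE_of_pow5 hP h5) h5
    exact ⟨u, QQ_le_TT hu, z_central (QQ_le_UT hu), k, hk⟩
  invol a ha h2 h1 := by
    have hfin : Finite LL := by infer_instance
    exact tdata.invol_cases ha h2 h1
  five g hg h5 hd := five_d (TT_le hg) h5 hd

end Cfsg.Agent.CpAutTits.Ten

end

-- merged: Cfsg.Agent.CpAutTits.Abs
section

/-!
# The centralizer of an element of order five of the Tits group, abstract form (helper73)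

`card_cent` : `|C(y)| = 50`, from `|C(y) ∩ C(i)| = 10`, the fusion in a Sylow 5-subgroup and Sylow's theorem.
-/

set_option autoImplicit false

namespace Cfsg.Agent.CpAutTits

open Subgroup

universe u

section inv

variable {C : Type u} [Group C] [Finite C]

/-- an involution acting on a normal subgroup `M` with fixed points `⟨y⟩` central: `M / ⟨y⟩` is inverted -/
theorem inv_mod {y i : C} (hy : ∀ c : C, y * c = c * y) (hodd : Odd (orderOf y)) (hi : i * i = 1) (M : Subgroup C)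
    [hM : M.Normal] (hfix : ∀ m ∈ M, i * m = m * i → m ∈ zpowers y) :
    (∀ m ∈ M, ∃ k : ℤ, i * m * i⁻¹ = m⁻¹ * y ^ k) ∧ ∀ a ∈ M, ∀ b ∈ M, ∃ k : ℤ, a * b = b * a * y ^ k := by
  have hzc : ∀ (k : ℤ) (c : C), y ^ k * c = c * y ^ k := fun k c => ((show Commute y c from hy c).zpow_left k)
  have hN : (zpowers y).Normal := by
    refine ⟨fun n hn g => ?_⟩
    obtain ⟨k, rfl⟩ := mem_zpowers_iff.1 hn
    rw [← hzc, mul_inv_cancel_right]
    exact hn
  let Mb : Subgroup (C ⧸ zpowers y) := M.map (QuotientGroup.mk' (zpowers y))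
  have hMb : Mb.Normal := Subgroup.Normal.map hM _ (QuotientGroup.mk'_surjective _)
  let φ : Mb →* Mb := (MulAut.conjNormal (H := Mb) ((i : C) : C ⧸ zpowers y)).toMonoidHom
  have hφ : ∀ g : Mb, ((φ g : Mb) : C ⧸ zpowers y) = (i : C ⧸ zpowers y) * g * (i : C ⧸ zpowers y)⁻¹ := fun g =>
    MulAut.conjNormal_apply _ _
  have hiinv : i⁻¹ = i := inv_eq_of_mul_eq_one_right hi
  have hfpf : MonoidHom.FixedPointFree φ := by
    rintro ⟨g, m, hm, rfl⟩ hg
    have h1 := congrArg Subtype.val hg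
    rw [hφ] at h1
    have h2 : ((i * m * i⁻¹ : C) : C ⧸ zpowers y) = ((m : C) : C ⧸ zpowers y) := h1
    have h3 := QuotientGroup.eq.1 h2.symm
    obtain ⟨k, hk⟩ := mem_zpowers_iff.1 h3
    have h4 : i * m * i⁻¹ = m * y ^ k := by rw [hk, mul_inv_cancel_left]
    -- apply the involution again
    have h5 : m = m * y ^ k * y ^ k := by
      calc m = i * (i * m * i⁻¹) * i⁻¹ := by
            rw [hiinv]
            calc m = 1 * m * 1 := by rw [one_mul, mul_one]
              _ = (i * i) * m * (i * i) := by rw [hi]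
              _ = i * (i * m * i) * i := by group
        _ = i * (m * y ^ k) * i⁻¹ := by rw [h4]
        _ = (i * m * i⁻¹) * y ^ k := by
            rw [mul_assoc (i * m), ← hzc k i⁻¹]
            group
        _ = m * y ^ k * y ^ k := by rw [h4]
    have h6 : y ^ k * y ^ k = 1 := by
      have := h5
      rw [mul_assoc] at this
      exact (mul_eq_left.1 this.symm)
    have h7 : y ^ k = 1 := by
      have h8 : orderOf (y ^ k) ∣ 2 := orderOf_dvd_of_pow_eq_one (by rw [pow_two, h6])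
      have h9 : orderOf (y ^ k) ∣ orderOf y := orderOf_dvd_of_mem_zpowers (zpow_mem (mem_zpowers y) k)
      have h10 : Nat.Coprime 2 (orderOf y) := (Nat.coprime_two_left).2 hodd
      exact orderOf_eq_one_iff.1 (Nat.eq_one_of_dvd_coprimes h10 h8 h9)
    rw [h7, mul_one, mul_inv_eq_iff_eq_mul] at h4
    apply Subtype.ext
    exact (QuotientGroup.eq_one_iff m).2 (hfix m hm h4)
  have hinv : Function.Involutive φ := by
    intro g
    apply Subtype.ext
    rw [hφ, hφ]
    have h1 : (i : C ⧸ zpowers y) * (i : C ⧸ zpowers y) = 1 := by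
      rw [← QuotientGroup.mk_mul, hi, QuotientGroup.mk_one]
    have h2 : (i : C ⧸ zpowers y)⁻¹ = i := inv_eq_of_mul_eq_one_right h1
    rw [h2]
    calc (i : C ⧸ zpowers y) * (i * g * i) * i = (i * i) * g * (i * i) := by group
      _ = g := by rw [h1, one_mul, mul_one]
  constructor
  · intro m hm
    have h1 := congrFun (hfpf.coe_eq_inv_of_involutive hinv) ⟨(m : C ⧸ zpowers y), m, hm, rfl⟩
    have h2 := congrArg Subtype.val h1
    rw [hφ] at h2
    have h3 : ((m⁻¹ : C) : C ⧸ zpowers y) = ((i * m * i⁻¹ : C) : C ⧸ zpowers y) := h2.symm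
    obtain ⟨k, hk⟩ := mem_zpowers_iff.1 (QuotientGroup.eq.1 h3)
    exact ⟨k, by rw [hk, mul_inv_cancel_left]⟩
  · intro a ha b hb
    have h1 := hfpf.commute_all_of_involutive hinv ⟨(b : C ⧸ zpowers y), b, hb, rfl⟩ ⟨(a : C ⧸ zpowers y), a, ha, rfl⟩
    have h2 := congrArg Subtype.val h1.eq
    have h3 : ((b * a : C) : C ⧸ zpowers y) = ((a * b : C) : C ⧸ zpowers y) := h2
    obtain ⟨k, hk⟩ := mem_zpowers_iff.1 (QuotientGroup.eq.1 h3)
    exact ⟨k, by rw [hk, mul_inv_cancel_left]⟩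

end inv

/-! ### The count -/

section count

variable {G : Type u} [Group G] [Finite G] {P : Subgroup G}

/-- the data -/
structure Hyp (P : Subgroup G) : Prop where
  card : Nat.card G = 2 ^ 11 * 3 ^ 3 * 5 ^ 2 * 13
  cardP : Nat.card P = 25
  exp : ∀ a ∈ P, a ^ 5 = 1
  comm : ∀ a ∈ P, ∀ b ∈ P, a * b = b * a
  fus : ∀ a ∈ P, a ≠ 1 → ∀ b ∈ P, b ≠ 1 → ∃ g ∈ normalizer (P : Set G), g * a * g⁻¹ = b
  ten : ∀ y, orderOf y = 5 → ∀ i, orderOf i = 2 → i * y = y * i →
    Nat.card ↥(centralizer ({y} : Set G) ⊓ centralizer ({i} : Set G)) = 10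
  ex : ∃ y i : G, orderOf y = 5 ∧ orderOf i = 2 ∧ i * y = y * i

variable (h : Hyp P)
include h

omit [Finite G] in
theorem Hyp.isPGroup : IsPGroup 5 P := by
  have : Fact (Nat.Prime 5) := ⟨by norm_num⟩
  exact IsPGroup.of_card (n := 2) (by rw [h.cardP]; norm_num)

omit [Finite G] in
theorem Hyp.index : P.index = 718848 := by
  have h1 := P.card_mul_index
  rw [h.cardP, h.card] at h1
  omega

/-- every element of order five is conjugate into `P` -/
theorem Hyp.exists_mem {y : G} (hy : orderOf y = 5) : ∃ g : G, g * y * g⁻¹ ∈ P := by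
  have : Fact (Nat.Prime 5) := ⟨by norm_num⟩
  have hp : IsPGroup 5 (zpowers y) := IsPGroup.of_card (n := 1) (by rw [Nat.card_zpowers, hy, pow_one])
  obtain ⟨Q, hQ⟩ := hp.exists_le_sylow
  obtain ⟨g, hg⟩ := MulAction.exists_smul_eq G Q (h.isPGroup.toSylow (by rw [h.index]; norm_num))
  refine ⟨g, ?_⟩
  have h1 : g * y * g⁻¹ ∈ ((g • Q : Sylow 5 G) : Subgroup G) := by
    rw [Sylow.coe_subgroup_smul]
    exact Subgroup.smul_mem_pointwise_smul _ _ _ (hQ (mem_zpowers y))
  rw [hg] at h1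
  exact h1

theorem Hyp.exists_conj {y y' : G} (hy : orderOf y = 5) (hy' : orderOf y' = 5) : ∃ g : G, g * y * g⁻¹ = y' := by
  obtain ⟨a, ha⟩ := h.exists_mem hy
  obtain ⟨b, hb⟩ := h.exists_mem hy'
  have hne : ∀ {y : G} (_ : orderOf y = 5) (a : G), a * y * a⁻¹ ≠ 1 := by
    intro y hy a h1
    have h2 : y = 1 := by
      have h3 := congrArg (fun u => a⁻¹ * u * a) h1
      simpa [mul_assoc] using h3
    rw [h2, orderOf_one] at hy
    omega
  obtain ⟨n, -, hn⟩ := h.fus _ ha (hne hy a) _ hb (hne hy' b)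
  refine ⟨b⁻¹ * n * a, ?_⟩
  calc b⁻¹ * n * a * y * (b⁻¹ * n * a)⁻¹ = b⁻¹ * (n * (a * y * a⁻¹) * n⁻¹) * b := by group
    _ = b⁻¹ * (b * y' * b⁻¹) * b := by rw [hn]
    _ = y' := by group

theorem Hyp.exists_inv {y : G} (hy : orderOf y = 5) : ∃ i : G, orderOf i = 2 ∧ i * y = y * i := by
  obtain ⟨y0, i0, hy0, hi0, hc⟩ := h.ex
  obtain ⟨k, hk⟩ := h.exists_conj hy0 hy
  refine ⟨k * i0 * k⁻¹, ?_, ?_⟩
  · rw [← hi0]
    exact orderOf_injective (MulAut.conj k).toMonoidHom (MulAut.conj k).injective i0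
  · rw [← hk]
    calc k * i0 * k⁻¹ * (k * y0 * k⁻¹) = k * (i0 * y0) * k⁻¹ := by group
      _ = k * (y0 * i0) * k⁻¹ := by rw [hc]
      _ = k * y0 * k⁻¹ * (k * i0 * k⁻¹) := by group

/-- the Sylow 2-subgroup of `C(y)` has order two -/
theorem Hyp.card_syl {y : G} (hy : orderOf y = 5) (S : Sylow 2 ↥(centralizer ({y} : Set G))) : Nat.card S = 2 := by
  have : Fact (Nat.Prime 2) := ⟨Nat.prime_two⟩
  obtain ⟨i, hi, hiy⟩ := h.exists_inv hy
  have hiC : i ∈ centralizer ({y} : Set G) := mem_centralizer_singleton_iff.2 hiy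
  have h2 : 2 ∣ Nat.card ↥(centralizer ({y} : Set G)) := by
    rw [← hi, ← Subgroup.orderOf_mk i hiC]
    exact orderOf_dvd_natCard _
  have h3 : 2 ∣ Nat.card S := S.dvd_card_of_dvd_card h2
  have hnt : Nontrivial S := by
    rw [← Finite.one_lt_card_iff_nontrivial]
    exact Nat.lt_of_lt_of_le (by norm_num) (Nat.le_of_dvd Nat.card_pos h3)
  have hcn : Nontrivial (center S) := S.isPGroup'.center_nontrivial
  have h4 : 2 ∣ Nat.card (center S) := by
    obtain ⟨k, hk⟩ := IsPGroup.iff_card.1 (S.isPGroup'.to_subgroup (center S))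
    have h5 : 1 < Nat.card (center S) := Finite.one_lt_card_iff_nontrivial.2 hcn
    rw [hk] at h5 ⊢
    apply dvd_pow_self
    rintro rfl
    norm_num at h5
  obtain ⟨j, hj⟩ := exists_prime_orderOf_dvd_card' 2 h4
  -- the image of `S` in `G`
  have hjG : orderOf (((j : S) : ↥(centralizer ({y} : Set G))) : G) = 2 := by
    rw [Subgroup.orderOf_coe, Subgroup.orderOf_coe, Subgroup.orderOf_coe, hj]
  have hle : ((S : Subgroup ↥(centralizer ({y} : Set G))).map (centralizer ({y} : Set G)).subtype) ≤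
      centralizer ({y} : Set G) ⊓ centralizer ({(((j : S) : ↥(centralizer ({y} : Set G))) : G)} : Set G) := by
    rintro _ ⟨s, hs, rfl⟩
    refine ⟨s.2, mem_centralizer_singleton_iff.2 ?_⟩
    have h5 := mem_center_iff.1 j.2 ⟨s, hs⟩
    exact congrArg (fun u : S => ((u : ↥(centralizer ({y} : Set G))) : G)) h5
  have h6 := Subgroup.card_dvd_of_le hle
  rw [h.ten y hy _ hjG (mem_centralizer_singleton_iff.1 ((j : S) : ↥(centralizer ({y} : Set G))).2),
    Nat.card_congr ((S : Subgroup ↥(centralizer ({y} : Set G))).equivMapOfInjective _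
      (centralizer ({y} : Set G)).subtype_injective).symm.toEquiv] at h6
  obtain ⟨k, hk⟩ := IsPGroup.iff_card.1 S.isPGroup'
  change Nat.card S ∣ 10 at h6
  rw [hk] at h6 h3 ⊢
  have h7 : 2 ^ k ≤ 10 := Nat.le_of_dvd (by norm_num) h6
  have h8 : k < 4 := by
    by_contra hk4
    have : 2 ^ 4 ≤ 2 ^ k := Nat.pow_le_pow_right (by norm_num) (by omega)
    omega
  interval_cases k <;> revert h3 h6 <;> decide

/-- the odd normal subgroup of index two of `C(y)` -/
theorem Hyp.exists_half {y : G} (hy : orderOf y = 5) : ∃ M : Subgroup ↥(centralizer ({y} : Set G)),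
    M.index = 2 ∧ Odd (Nat.card M) := by
  have : Fact (Nat.Prime 2) := ⟨Nat.prime_two⟩
  obtain ⟨S⟩ : Nonempty (Sylow 2 ↥(centralizer ({y} : Set G))) := inferInstance
  have hS := h.card_syl hy S
  have h2 : 2 ∣ Nat.card ↥(centralizer ({y} : Set G)) := by
    have h1 := Subgroup.card_subgroup_dvd_card (S : Subgroup ↥(centralizer ({y} : Set G)))
    change Nat.card S ∣ _ at h1
    rwa [hS] at h1
  have hcyc : IsCyclic S := isCyclic_of_prime_card hS
  obtain ⟨M, hM⟩ := Cfsg.Agent.PermutationGroups.NoIndexTwo.exists_index_two_of_isCyclic S hcyc h2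
  refine ⟨M, hM, ?_⟩
  have h1 := S.not_dvd_index
  have h3 := (S : Subgroup ↥(centralizer ({y} : Set G))).card_mul_index
  change Nat.card S * _ = _ at h3
  have h4 := M.card_mul_index
  rw [hM] at h4
  rw [hS] at h3
  have h5 : Nat.card M = (S : Subgroup ↥(centralizer ({y} : Set G))).index := by omega
  rw [h5, ← Nat.not_even_iff_odd, even_iff_two_dvd]
  exact h1

/-- the structure of `C(y)`, `y ∈ P` -/
theorem Hyp.le_normalizer {y : G} (hyP : y ∈ P) (hy : orderOf y = 5) :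
    centralizer ({y} : Set G) ≤ normalizer (P : Set G) := by
  obtain ⟨i, hi, hiy⟩ := h.exists_inv hy
  obtain ⟨M, hM, hodd⟩ := h.exists_half hy
  have hi2 : i * i = 1 := by rw [← pow_two, ← hi, pow_orderOf_eq_one]
  have hiC : i ∈ centralizer ({y} : Set G) := mem_centralizer_singleton_iff.2 hiy
  have hyC : y ∈ centralizer ({y} : Set G) := mem_centralizer_singleton_iff.2 rfl
  have hMn : M.Normal := Subgroup.normal_of_index_eq_two hM
  let y' : ↥(centralizer ({y} : Set G)) := ⟨y, hyC⟩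
  let i' : ↥(centralizer ({y} : Set G)) := ⟨i, hiC⟩
  have hoy : orderOf y' = 5 := by rw [Subgroup.orderOf_mk, hy]
  -- elements of order dividing five are in `M`
  have hfive : ∀ c : ↥(centralizer ({y} : Set G)), c ^ 5 = 1 → c ∈ M := by
    intro c hc
    have h1 : c = (c ^ 3) ^ 2 := by rw [← pow_mul, show 3 * 2 = 5 + 1 by norm_num, pow_succ, hc, one_mul]
    rw [h1]
    exact Subgroup.sq_mem_of_index_two hM _
  have hy'M : y' ∈ M := hfive y' (by rw [← hoy, pow_orderOf_eq_one])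
  -- the fixed points of `i` on `M`
  have hfix : ∀ m ∈ M, i' * m = m * i' → m ∈ zpowers y' := by
    let D : Subgroup ↥(centralizer ({y} : Set G)) := M ⊓ centralizer ({i'} : Set _)
    have hD1 : Nat.card D ∣ Nat.card M := Subgroup.card_dvd_of_le inf_le_left
    have hD2 : Nat.card D ∣ 10 := by
      have hle : D.map (centralizer ({y} : Set G)).subtype ≤ centralizer ({y} : Set G) ⊓ centralizer ({i} : Set G) := by
        rintro _ ⟨d, hd, rfl⟩
        refine ⟨d.2, mem_centralizer_singleton_iff.2 ?_⟩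
        exact congrArg Subtype.val (mem_centralizer_singleton_iff.1 hd.2)
      have h6 := Subgroup.card_dvd_of_le hle
      rwa [h.ten y hy i hi hiy, Nat.card_congr (D.equivMapOfInjective _
        (centralizer ({y} : Set G)).subtype_injective).symm.toEquiv] at h6
    have hD3 : Odd (Nat.card D) := Odd.of_dvd_nat hodd hD1
    have hD4 : Nat.card D ∣ 5 := (Nat.Coprime.dvd_mul_left (Nat.coprime_two_right.2 hD3)).1 (by exact hD2)
    have hle : zpowers y' ≤ D := by
      rw [zpowers_le]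
      refine ⟨hy'M, mem_centralizer_singleton_iff.2 ?_⟩
      exact Subtype.ext hiy.symm
    have heq : zpowers y' = D := by
      apply Subgroup.eq_of_le_of_card_ge hle
      rw [Nat.card_zpowers, hoy]
      exact Nat.le_of_dvd (by norm_num) hD4
    intro m hm hc
    rw [heq]
    exact ⟨hm, mem_centralizer_singleton_iff.2 hc.symm⟩
  have hcent : ∀ c : ↥(centralizer ({y} : Set G)), y' * c = c * y' := fun c =>
    Subtype.ext (mem_centralizer_singleton_iff.1 c.2).symm
  obtain ⟨hinv, hcomm⟩ := inv_mod (y := y') (i := i') hcent (by rw [hoy]; decide) (Subtype.ext hi2) M hfix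
  -- `P ≤ M`
  have hPC : ∀ p ∈ P, p ∈ centralizer ({y} : Set G) := fun p hp =>
    mem_centralizer_singleton_iff.2 (h.comm p hp y hyP)
  have hPM : ∀ (p : G) (hp : p ∈ P), (⟨p, hPC p hp⟩ : ↥(centralizer ({y} : Set G))) ∈ M := fun p hp =>
    hfive _ (Subtype.ext (h.exp p hp))
  have hiP : ∀ p ∈ P, i * p * i⁻¹ ∈ P := by
    intro p hp
    obtain ⟨k, hk⟩ := hinv _ (hPM p hp)
    have h1 : i * p * i⁻¹ = p⁻¹ * y ^ k := congrArg Subtype.val hk
    rw [h1]
    exact P.mul_mem (P.inv_mem hp) (Subgroup.zpow_mem _ hyP k)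
  have hMP : ∀ m ∈ M, ∀ p ∈ P, (m : G) * p * (m : G)⁻¹ ∈ P := by
    intro m hm p hp
    obtain ⟨k, hk⟩ := hcomm m hm _ (hPM p hp)
    have h1 : (m : G) * p = p * m * y ^ k := congrArg Subtype.val hk
    have h2 : y * (m : G) = m * y := (mem_centralizer_singleton_iff.1 m.2).symm
    have h3 : (m : G) * y ^ k = y ^ k * m := ((show Commute y (m : G) from h2).zpow_left k).symm.eq
    rw [h1, mul_assoc p, h3, ← mul_assoc, mul_inv_cancel_right]
    exact P.mul_mem hp (Subgroup.zpow_mem _ hyP k)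
  have hiM : i' ∉ M := by
    intro hiM
    have h1 : orderOf (⟨i', hiM⟩ : M) ∣ Nat.card M := orderOf_dvd_natCard _
    rw [Subgroup.orderOf_mk, Subgroup.orderOf_mk, hi] at h1
    exact (Nat.not_even_iff_odd.2 hodd) (even_iff_two_dvd.2 h1)
  have key : ∀ c ∈ centralizer ({y} : Set G), ∀ p ∈ P, c * p * c⁻¹ ∈ P := by
    intro c hc p hp
    by_cases hcM : (⟨c, hc⟩ : ↥(centralizer ({y} : Set G))) ∈ M
    · exact hMP _ hcM p hp
    · have h1 : (⟨c, hc⟩ : ↥(centralizer ({y} : Set G))) * i' ∈ M :=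
        (Subgroup.mul_mem_iff_of_index_two hM).2 ⟨fun h => absurd h hcM, fun h => absurd h hiM⟩
      have h2 := hMP _ h1 _ (hiP p hp)
      change c * i * (i * p * i⁻¹) * (c * i)⁻¹ ∈ P at h2
      have h3 : c * i * (i * p * i⁻¹) * (c * i)⁻¹ = c * p * c⁻¹ := by
        have hii : i⁻¹ = i := inv_eq_of_mul_eq_one_right hi2
        calc c * i * (i * p * i⁻¹) * (c * i)⁻¹ = c * (i * i) * p * (i⁻¹ * i⁻¹) * c⁻¹ := by group
          _ = c * p * c⁻¹ := by rw [hii, hi2, mul_one, mul_one]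
      rwa [h3] at h2
  intro c hc
  rw [Subgroup.mem_normalizer_iff]
  intro p
  refine ⟨key c hc p, fun hp => ?_⟩
  have h1 := key c⁻¹ (Subgroup.inv_mem _ hc) _ hp
  have h2 : c⁻¹ * (c * p * c⁻¹) * c⁻¹⁻¹ = p := by group
  rwa [h2] at h1

/-- the order of `N(P)` -/
theorem Hyp.card_normalizer {y : G} (hyP : y ∈ P) (hy : orderOf y = 5) :
    Nat.card ↥(normalizer (P : Set G)) = 24 * Nat.card ↥(centralizer ({y} : Set G)) := by
  classical
  have hy1 : y ≠ 1 := by
    rintro rfl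
    rw [orderOf_one] at hy
    omega
  let N := normalizer (P : Set G)
  let _ : MulAction ↥N G := MulAction.compHom G ((MulAut.conj : G →* MulAut G).comp N.subtype)
  have hsm : ∀ (n : ↥N) (g : G), n • g = (n : G) * g * (n : G)⁻¹ := fun _ _ => rfl
  have horb : MulAction.orbit ↥N y = (P : Set G) \ {1} := by
    ext g
    constructor
    · rintro ⟨n, rfl⟩
      change n • y ∈ _
      rw [hsm]
      refine ⟨(Subgroup.mem_normalizer_iff.1 n.2 y).1 hyP, ?_⟩
      intro h1
      apply hy1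
      have h2 : (n : G) * y * (n : G)⁻¹ = 1 := h1
      have h3 := congrArg (fun u => (n : G)⁻¹ * u * (n : G)) h2
      simpa [mul_assoc] using h3
    · rintro ⟨hg, hg1⟩
      obtain ⟨n, hn, h1⟩ := h.fus y hyP hy1 g hg hg1
      exact ⟨⟨n, hn⟩, h1⟩
  have hstab : MulAction.stabilizer ↥N y = (centralizer ({y} : Set G)).subgroupOf N := by
    ext n
    rw [MulAction.mem_stabilizer_iff, hsm, Subgroup.mem_subgroupOf, mem_centralizer_singleton_iff,
      mul_inv_eq_iff_eq_mul]
  have h1 := MulAction.index_stabilizer ↥N y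
  rw [horb, hstab] at h1
  have h2 : ((P : Set G) \ {1}).ncard = 24 := by
    rw [Set.ncard_sdiff_singleton_of_mem (show (1 : G) ∈ (P : Set G) from P.one_mem)]
    change Nat.card ↥P - 1 = 24
    rw [h.cardP]
  rw [h2] at h1
  have h3 := ((centralizer ({y} : Set G)).subgroupOf N).card_mul_index
  rw [h1, Nat.card_congr (Subgroup.subgroupOfEquivOfLe (h.le_normalizer hyP hy)).toEquiv] at h3
  rw [← h3, mul_comm]

/-- **`|C(y)| = 50`** -/
theorem Hyp.card_cent_mem {y : G} (hyP : y ∈ P) (hy : orderOf y = 5) :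
    Nat.card ↥(centralizer ({y} : Set G)) = 50 := by
  have : Fact (Nat.Prime 5) := ⟨by norm_num⟩
  obtain ⟨M, hM, hodd⟩ := h.exists_half hy
  have h1 := M.card_mul_index
  rw [hM] at h1
  have hPC : P ≤ centralizer ({y} : Set G) := fun p hp => mem_centralizer_singleton_iff.2 (h.comm p hp y hyP)
  have h2 : 25 ∣ Nat.card ↥(centralizer ({y} : Set G)) := by
    rw [← h.cardP]
    exact Subgroup.card_dvd_of_le hPC
  have h3 := h.card_normalizer hyP hy
  have h4 := (normalizer (P : Set G)).card_mul_index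
  let Q : Sylow 5 G := h.isPGroup.toSylow (by rw [h.index]; norm_num)
  have h5 : Nat.card (Sylow 5 G) = (normalizer (P : Set G)).index := Q.card_eq_index_normalizer
  have h6 : Nat.card (Sylow 5 G) ≡ 1 [MOD 5] := card_sylow_modEq_one 5 G
  rw [h5] at h6
  rw [h3, h.card] at h4
  rw [← h1] at h2 h4
  have h7 : 25 ∣ Nat.card M := (Nat.Coprime.dvd_mul_right (by norm_num)).1 h2
  obtain ⟨m, hm⟩ := h7
  rw [hm] at h4 hodd
  generalize hidx : (normalizer (P : Set G)).index = n at h4 h6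
  have h8 : m * n = 14976 := by
    have : 24 * (25 * m * 2) * n = 1200 * (m * n) := by ring
    rw [this] at h4
    omega
  have h9 : Odd m := by
    rw [Nat.odd_mul] at hodd
    exact hodd.2
  have h10 : m ∣ 117 := by
    have h11 : m ∣ 128 * 117 := ⟨n, by omega⟩
    have h12 : Nat.Coprime m 128 := by
      have : Nat.Coprime m (2 ^ 7) := Nat.Coprime.pow_right 7 (Nat.coprime_two_right.2 h9)
      exact this
    exact h12.dvd_of_dvd_mul_left h11
  have h13 : m ≤ 117 := Nat.le_of_dvd (by norm_num) h10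
  have h14 : n % 5 = 1 := h6
  have h15 : m = 1 := by
    have h16 : ∀ m ≤ 117, m ∣ 117 → m = 1 ∨ m = 3 ∨ m = 9 ∨ m = 13 ∨ m = 39 ∨ m = 117 := by decide
    rcases h16 m h13 h10 with rfl | rfl | rfl | rfl | rfl | rfl <;> omega
  rw [← h1, hm, h15]

/-- **`|C(y)| = 50`** -/
theorem Hyp.card_cent {y : G} (hy : orderOf y = 5) : Nat.card ↥(centralizer ({y} : Set G)) = 50 := by
  obtain ⟨g, hg⟩ := h.exists_mem hy
  have h1 : orderOf (g * y * g⁻¹) = 5 := by
    rw [← hy]
    exact orderOf_injective (MulAut.conj g).toMonoidHom (MulAut.conj g).injective y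
  rw [← h.card_cent_mem hg h1]
  have h2 : (centralizer ({y} : Set G)).map (MulAut.conj g).toMonoidHom = centralizer ({g * y * g⁻¹} : Set G) := by
    ext a
    rw [mem_centralizer_singleton_iff]
    constructor
    · rintro ⟨c, hc, rfl⟩
      have h3 : c * y = y * c := mem_centralizer_singleton_iff.1 hc
      change g * c * g⁻¹ * (g * y * g⁻¹) = g * y * g⁻¹ * (g * c * g⁻¹)
      calc g * c * g⁻¹ * (g * y * g⁻¹) = g * (c * y) * g⁻¹ := by group
        _ = g * (y * c) * g⁻¹ := by rw [h3]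
        _ = g * y * g⁻¹ * (g * c * g⁻¹) := by group
    · intro ha
      refine ⟨g⁻¹ * a * g, mem_centralizer_singleton_iff.2 ?_, ?_⟩
      · calc g⁻¹ * a * g * y = g⁻¹ * (a * (g * y * g⁻¹)) * g := by group
          _ = g⁻¹ * (g * y * g⁻¹ * a) * g := by rw [ha]
          _ = y * (g⁻¹ * a * g) := by group
      · change g * (g⁻¹ * a * g) * g⁻¹ = a
        group
  rw [← h2]
  exact Nat.card_congr ((centralizer ({y} : Set G)).equivMapOfInjective _ (MulAut.conj g).injective).toEquiv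

/-- no element of order three commutes with an element of order five -/
theorem Hyp.not_comm {x y : G} (hx : orderOf x = 3) (hy : orderOf y = 5) : x * y ≠ y * x := by
  intro hc
  have h1 : x ∈ centralizer ({y} : Set G) := mem_centralizer_singleton_iff.2 hc
  have h2 : orderOf (⟨x, h1⟩ : ↥(centralizer ({y} : Set G))) ∣ Nat.card ↥(centralizer ({y} : Set G)) :=
    orderOf_dvd_natCard _
  rw [Subgroup.orderOf_mk, hx, h.card_cent hy] at h2
  omega

end count

end Cfsg.Agent.CpAutTits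

end

-- merged: Cfsg.Agent.CpAutTits.Fus
section

/-!
# The Sylow 5-subgroup of the Tits group (helper73)

`⟨a, b⟩ = 5²`, and `N(⟨a, b⟩)` is transitive on its elements of order five.
-/

set_option autoImplicit false

namespace Cfsg.Agent.CpAutTits.Fus

open Subgroup
open Cfsg.Agent.Omega.TwoF.Tits Cfsg.Agent.Omega.TwoF.Scalar Cfsg.Agent.Omega.TwoF.Orb
  Cfsg.Agent.ChevalleyStructure.Tits.Main

/-- the Sylow 5-subgroup -/
noncomputable abbrev P : Subgroup C := grp two

theorem card_P : Nat.card P = 25 := by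
  have hmem : ∀ p : Fin 5 × Fin 5, a ^ (p.1 : ℕ) * b ^ (p.2 : ℕ) ∈ P := fun p => ⟨_, _, rfl⟩
  let f : Fin 5 × Fin 5 → P := fun p => ⟨a ^ (p.1 : ℕ) * b ^ (p.2 : ℕ), hmem p⟩
  have hf : ∀ p, ((f p : P) : C) = a ^ (p.1 : ℕ) * b ^ (p.2 : ℕ) := fun _ => rfl
  have hbij : Function.Bijective f := by
    constructor
    · rintro ⟨i, j⟩ ⟨k, l⟩ h
      have h0 : ((f (i, j) : P) : C) = ((f (k, l) : P) : C) := by rw [h]
      rw [hf, hf] at h0
      have h1 := (two.eq_iff _ _ _ _).1 h0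
      rw [Nat.mod_eq_of_lt i.2, Nat.mod_eq_of_lt k.2, Nat.mod_eq_of_lt j.2, Nat.mod_eq_of_lt l.2] at h1
      exact Prod.ext (Fin.ext h1.1) (Fin.ext h1.2)
    · rintro ⟨x, hx⟩
      obtain ⟨i, hi, j, hj, h⟩ := mem_grp' two hx
      exact ⟨(⟨i, hi⟩, ⟨j, hj⟩), Subtype.ext ((hf _).trans h.symm)⟩
  rw [← Nat.card_eq_of_bijective _ hbij, Nat.card_prod, Nat.card_fin]

theorem mem_normalizer_of_cj {g : C} (h : cj g P = P) : g ∈ normalizer (P : Set C) := by
  rw [Subgroup.mem_normalizer_iff]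
  intro x
  refine ⟨fun hx => conj_mem_of_cj h hx, fun hx => ?_⟩
  have h1 := conj_mem_of_cj (cj_inv_eq h) hx
  have h2 : g⁻¹ * (g * x * g⁻¹) * g⁻¹⁻¹ = x := by group
  rwa [h2] at h1

theorem t_mem : t ∈ normalizer (P : Set C) := by
  apply mem_normalizer_of_cj
  apply cj_eq_of_le
  apply cj_le_iff
  rintro _ ⟨i, j, rfl⟩
  have e : t * (a ^ i * b ^ j) * t⁻¹ = (t * a * t⁻¹) ^ i * (t * b * t⁻¹) ^ j := by
    rw [conj_pow, conj_pow]; group
  rw [e, ta, tb, ← pow_mul, ← pow_mul]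
  exact ⟨_, _, rfl⟩

theorem x_mem (k : Fin 6) : x k ∈ normalizer (P : Set C) := mem_normalizer_of_cj (good k).1

theorem conj_t (m : ℕ) : t ^ m * a * (t ^ m)⁻¹ = a ^ (2 ^ m) := by
  induction m with
  | zero => simp
  | succ m ih =>
    have e : t ^ (m + 1) * a * (t ^ (m + 1))⁻¹ = t * (t ^ m * a * (t ^ m)⁻¹) * t⁻¹ := by
      rw [pow_succ']
      group
    rw [e, ih, ← conj_pow, ta, ← pow_mul, pow_succ']

theorem exists_two_pow : ∀ n < 5, n ≠ 0 → ∃ m, 2 ^ m % 5 = n := by
  intro n hn hn0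
  interval_cases n
  · exact absurd rfl hn0
  · exact ⟨0, rfl⟩
  · exact ⟨1, rfl⟩
  · exact ⟨3, rfl⟩
  · exact ⟨2, rfl⟩

theorem exists_conj_a {g : C} (hg : g ∈ P) (hg1 : g ≠ 1) : ∃ s ∈ normalizer (P : Set C), s * a * s⁻¹ = g := by
  obtain ⟨i, hi, j, hj, rfl⟩ := mem_grp' two hg
  have hij : (i, j) ≠ (0, 0) := by
    intro h
    rw [Prod.mk.injEq] at h
    apply hg1
    rw [h.1, h.2, pow_zero, pow_zero, one_mul]
  obtain ⟨k, n, hn, hn0, h1, h2⟩ := pts_cover i hi j hj hij
  obtain ⟨m, hm⟩ := exists_two_pow n hn hn0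
  refine ⟨x k * t ^ m, mul_mem (x_mem k) (pow_mem t_mem m), ?_⟩
  have e : x k * t ^ m * a * (x k * t ^ m)⁻¹ = x k * (t ^ m * a * (t ^ m)⁻¹) * (x k)⁻¹ := by group
  rw [e, conj_t, ← pow_mod_five a5, hm, ← conj_pow, x_a, two.pow, two.eq_iff]
  rw [h1, h2, Nat.mod_eq_of_lt hi, Nat.mod_eq_of_lt hj]
  exact ⟨rfl, rfl⟩

theorem fus {g : C} (hg : g ∈ P) (hg1 : g ≠ 1) {g' : C} (hg' : g' ∈ P) (hg1' : g' ≠ 1) :
    ∃ s ∈ normalizer (P : Set C), s * g * s⁻¹ = g' := by
  obtain ⟨s, hs, h1⟩ := exists_conj_a hg hg1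
  obtain ⟨s', hs', h2⟩ := exists_conj_a hg' hg1'
  refine ⟨s' * s⁻¹, mul_mem hs' (inv_mem hs), ?_⟩
  rw [← h1, ← h2]
  group

theorem hyp (hten : ∀ y : C, orderOf y = 5 → ∀ i, orderOf i = 2 → i * y = y * i →
      Nat.card ↥(centralizer ({y} : Set C) ⊓ centralizer ({i} : Set C)) = 10)
    (hex : ∃ y i : C, orderOf y = 5 ∧ orderOf i = 2 ∧ i * y = y * i) : Hyp P where
  card := H0_result.2.2.2
  cardP := card_P
  exp := (elem_grp two).pow
  comm := (elem_grp two).comm
  fus := fun _ ha ha1 _ hb hb1 => fus ha ha1 hb hb1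
  ten := hten
  ex := hex

end Cfsg.Agent.CpAutTits.Fus

end

-- merged: Cfsg.Agent.CpAutTits.Row
section

/-!
# S1814 for the Tits group, `p = 5` and `p = 3` (helper73)

* `five` : `AutC 5 X`;
* `three` : `AutC 3 X` (from the orders of the known simple groups).
-/

set_option autoImplicit false

namespace Cfsg.Agent.CpAutTits.Row

open Subgroup Cfsg
open Cfsg.Agent.LThree (Comps)
open Cfsg.Agent.CpAut

universe u v

/-- centralizers of elements of orders five and three -/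
structure Out (X : Type*) [Group X] : Prop where
  card : Nat.card X = 2 ^ 11 * 3 ^ 3 * 5 ^ 2 * 13
  cent : ∀ y : X, orderOf y = 5 → Nat.card ↥(centralizer ({y} : Set X)) = 50
  ncomm : ∀ x y : X, orderOf x = 3 → orderOf y = 5 → x * y ≠ y * x

theorem Out.congr {X : Type u} {Y : Type v} [Group X] (h : Out X) [Group Y] (e : X ≃* Y) : Out Y where
  card := by
    rw [← h.card]
    exact (Nat.card_congr e.toEquiv).symm
  cent y hy := by
    have h1 := h.cent (e.symm y) (by rw [MulEquiv.orderOf_eq, hy])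
    have h2 := Ten.card_inf_equiv e (e.symm y) (e.symm y)
    rw [inf_idem, inf_idem, e.apply_symm_apply, h1] at h2
    exact h2
  ncomm x y hx hy hc := by
    refine h.ncomm (e.symm x) (e.symm y) (by rw [MulEquiv.orderOf_eq, hx]) (by rw [MulEquiv.orderOf_eq, hy]) ?_
    rw [← map_mul, hc, map_mul]

theorem out_of_hyp {G : Type u} [Group G] [Finite G] {P : Subgroup G} (h : Hyp P) : Out G :=
  ⟨h.card, fun _ hy => h.card_cent hy, fun _ _ hx hy => h.not_comm hx hy⟩

theorem hyp_of_ten {X : Type u} {G : Type v} [Group X] [Group G] (e : G ≃* X)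
    (hten : ∀ y : X, orderOf y = 5 → ∀ i, orderOf i = 2 → i * y = y * i →
      Nat.card ↥(centralizer ({y} : Set X) ⊓ centralizer ({i} : Set X)) = 10)
    (hex : ∃ y i : X, orderOf y = 5 ∧ orderOf i = 2 ∧ i * y = y * i) :
    (∀ y : G, orderOf y = 5 → ∀ i, orderOf i = 2 → i * y = y * i →
      Nat.card ↥(centralizer ({y} : Set G) ⊓ centralizer ({i} : Set G)) = 10) ∧
    (∃ y i : G, orderOf y = 5 ∧ orderOf i = 2 ∧ i * y = y * i) := by
  constructor
  · intro y hy i hi hc
    rw [← Ten.card_inf_equiv e y i]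
    exact hten (e y) (by rw [MulEquiv.orderOf_eq, hy]) (e i) (by rw [MulEquiv.orderOf_eq, hi])
      (by rw [← map_mul, hc, map_mul])
  · obtain ⟨y, i, hy, hi, hc⟩ := hex
    exact ⟨e.symm y, e.symm i, by rw [MulEquiv.orderOf_eq, hy], by rw [MulEquiv.orderOf_eq, hi],
      by rw [← map_mul, hc, map_mul]⟩

section

open Cfsg.Agent.Omega.TwoF.Tits Cfsg.Agent.Omega.TwoF.Scalar Cfsg.Agent.Omega.TwoF.Orb
  Cfsg.Agent.ChevalleyStructure.Tits.Main

theorem out_C0 (hten : ∀ y : C, orderOf y = 5 → ∀ i, orderOf i = 2 → i * y = y * i →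
      Nat.card ↥(centralizer ({y} : Set C) ⊓ centralizer ({i} : Set C)) = 10)
    (hex : ∃ y i : C, orderOf y = 5 ∧ orderOf i = 2 ∧ i * y = y * i) : Out C := by
  have h := Fus.hyp hten hex
  exact out_of_hyp h

theorem out_C {X : Type} [Group X] (e : C ≃* X)
    (hten : ∀ y : X, orderOf y = 5 → ∀ i, orderOf i = 2 → i * y = y * i →
      Nat.card ↥(centralizer ({y} : Set X) ⊓ centralizer ({i} : Set X)) = 10)
    (hex : ∃ y i : X, orderOf y = 5 ∧ orderOf i = 2 ∧ i * y = y * i) : Out X := by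
  have h := hyp_of_ten (G := C) e hten hex
  have h1 := out_C0 h.1 h.2
  exact h1.congr e

end

theorem out_TT_aux (K : Subgroup (Matrix.GeneralLinearGroup Cfsg.Agent.ChevalleyStructure.Tits.Mat.I52 (ZMod 2)))
    (hK : K = Cfsg.Agent.ChevalleyStructure.Tits.Order.H0)
    (e : Nonempty (↥(_root_.commutator K) ≃* ↥Cfsg.Agent.TitsK.TT)) : Out ↥Cfsg.Agent.TitsK.TT := by
  subst hK
  obtain ⟨e⟩ := e
  exact out_C e Ten.facts.ten ⟨Ten.facts.xT, Ten.facts.zT, Ten.facts.order_x, Ten.facts.order_z, Ten.facts.comm_zx⟩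

theorem out_TT : Out ↥Cfsg.Agent.TitsK.TT :=
  out_TT_aux (Cfsg.Lie.twistedF4 (ZMod 2) 1) Cfsg.Agent.ChevalleyStructure.Tits.Main.T0_eq_H0
    Cfsg.Agent.TitsK.exists_equiv

theorem autInner_TT {p : ℕ} (hp : p.Prime) (hp2 : p ≠ 2) : AutInner p ↥Cfsg.Agent.TitsK.TT := by
  have hfin : Finite Cfsg.Agent.FourTwo.Base.LL := by infer_instance
  have h := Cfsg.Agent.TitsK.tdata.index_inn
  refine autInner_of_index ?_ (Cfsg.Agent.Schreier.Basic.conj_range_normal _)
  refine Nat.Coprime.coprime_dvd_left h ?_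
  exact (Nat.coprime_primes Nat.prime_two hp).2 hp2.symm

theorem exists_equiv {X : Type u} [Group X] (h : Lie.IsoTits X) : Nonempty (X ≃* ↥Cfsg.Agent.TitsK.TT) := by
  obtain ⟨e⟩ := h
  obtain ⟨e'⟩ := Cfsg.Agent.TitsK.exists_equiv
  exact ⟨e.trans e'⟩

theorem out {X : Type u} [Group X] (h : Lie.IsoTits X) : Out X := by
  obtain ⟨e⟩ := exists_equiv h
  exact out_TT.congr e.symm

theorem autInner {X : Type u} [Group X] (h : Lie.IsoTits X) {p : ℕ} (hp : p.Prime) (hp2 : p ≠ 2) : AutInner p X := by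
  obtain ⟨e⟩ := exists_equiv h
  have h1 := autInner_TT hp hp2
  exact AutInner.congr (X := ↥Cfsg.Agent.TitsK.TT) e.symm h1

section

variable {X : Type u} [Group X] [Finite X] [IsSimpleGroup X]

theorem center_bot (h : Out X) : center X = ⊥ := by
  refine center_eq_bot_of_simple fun hc => ?_
  have : Fact (Nat.Prime 5) := ⟨by norm_num⟩
  obtain ⟨y, hy⟩ := exists_prime_orderOf_dvd_card' (G := X) 5 (by rw [h.card]; norm_num)
  have h1 := h.cent y hy
  have h2 : centralizer ({y} : Set X) = ⊤ := by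
    rw [eq_top_iff]
    intro a _
    exact mem_centralizer_singleton_iff.2 (hc.is_comm.comm a y)
  rw [h2, card_top, h.card] at h1
  norm_num at h1

/-- `FiveRows.tits` -/
theorem five (h : Lie.IsoTits X) : AutC 5 X := by
  have ho := out h
  refine autC_of_inner (center_bot ho) (autInner h (by norm_num) (by norm_num)) fun g hg => ?_
  apply Comps.of_solvable
  exact S0144.result 2 5 1 2 (by norm_num) (by norm_num) (by rw [ho.cent g hg]; norm_num)

/-- `ThreeRows.tits` -/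
theorem three (T : OrdDiv.OrderTable.{u}) (hS : AllKnown.{u}) (h : Lie.IsoTits X) : AutC 3 X := by
  have ho := out h
  refine autC_of_inner (center_bot ho) (autInner h (by norm_num) (by norm_num)) fun g hg => ?_
  refine Known.comps_centralizer_of_cands T hS (by norm_num) hg (l := [(2, 11), (3, 2), (13, 1)])
    (N := 2 ^ 11 * 3 ^ 2 * 13) (by decide +kernel) ?_ ?_
  · have h1 : Nat.card ↥(centralizer ({g} : Set X)) ∣ 2 ^ 11 * 3 ^ 3 * 13 * 5 ^ 2 := by
      have h2 := card_subgroup_dvd_card (centralizer ({g} : Set X))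
      rw [ho.card] at h2
      have h3 : 2 ^ 11 * 3 ^ 3 * 5 ^ 2 * 13 = 2 ^ 11 * 3 ^ 3 * 13 * 5 ^ 2 := by norm_num
      rwa [h3] at h2
    have h2 : ¬ 5 ∣ Nat.card ↥(centralizer ({g} : Set X)) := by
      intro h5
      have : Fact (Nat.Prime 5) := ⟨by norm_num⟩
      obtain ⟨y, hy⟩ := exists_prime_orderOf_dvd_card' (G := ↥(centralizer ({g} : Set X))) 5 h5
      refine ho.ncomm g (y : X) hg ?_ (mem_centralizer_singleton_iff.1 y.2).symm
      rw [← hy]
      exact orderOf_coe _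
    have h3 : (Nat.card ↥(centralizer ({g} : Set X))).Coprime (5 ^ 2) :=
      (((Nat.Prime.coprime_iff_not_dvd (by norm_num)).2 h2).symm).pow_right 2
    have h4 := h3.dvd_of_dvd_mul_right h1
    have h5 : 2 ^ 11 * 3 ^ 3 * 13 = 2 ^ 11 * 3 ^ 2 * 13 * 3 := by norm_num
    rwa [h5] at h4
  · intro g hg
    rw [show OrdDiv.cands [(2, 11), (3, 2), (13, 1)] (2 ^ 11 * 3 ^ 2 * 13) = [] from by decide +kernel] at hg
    exact absurd hg (List.not_mem_nil)

end

end Cfsg.Agent.CpAutTits.Row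

end
end

-- part: H403/TitsSixteen
section
set_option linter.all false
open scoped Cfsg.Agent.FastGrp

/-!
# The Tits group has elements of order 16 (helper403)
-/

set_option autoImplicit false

namespace Cfsg.Agent.H403.Tits

open Cfsg Cfsg.Lie
open Cfsg.Agent.TitsK
open Cfsg.Agent.FourTwo.Base hiding bar bar_lt
open Cfsg.Agent.FourTwo.BN Cfsg.Agent.FourTwo.Comm Cfsg.Agent.FourTwo.Classes
open Cfsg.Agent.FourTwo.UCode (mulU invU conjU)

theorem mem_aux : ec 74 * (ec 263172)⁻¹ ∈ TT := by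
  have hw : ([0, 3] : List ℕ) ∈ W16 := by decide
  have h1 : nw [0, 3] * ec 74 * (nw [0, 3])⁻¹ = ec 263172 := by
    have h := nw_conj_ec (w := [0, 3]) (e := 74) (lt_of_mem_W16 hw) (by decide +kernel)
    rw [h]
    exact congrArg ec (by decide +kernel)
  have h2 := TT_comm ec74.2 (nw_mem_HT hw)
  have h3 : ec 74 * (ec 263172)⁻¹ = ec 74 * nw [0, 3] * ((ec 74)⁻¹ * (nw [0, 3])⁻¹) := by
    rw [← h1]; group
  rw [h3]
  exact h2

def c16 : ℕ := 8625979

theorem c16_mem : ec c16 ∈ TT := by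
  have h : mulU (mulU (mulU 74 (invU 263172)) 513) 80 = c16 := by decide +kernel
  rw [← h, ec_mulU, ec_mulU, ec_mulU, ec_invU]
  exact mul_mem (mul_mem mem_aux t513) t80

def dbl (a : ℕ) : ℕ := mulU a a

theorem ec_dbl (a : ℕ) : ec (dbl a) = ec a ^ 2 := by rw [dbl, ec_mulU, pow_two]

theorem order_c16 : orderOf (⟨ec c16, c16_mem⟩ : TT) = 16 := by
  rw [Subgroup.orderOf_mk]
  have : Fact (Nat.Prime 2) := ⟨Nat.prime_two⟩
  have e8 : ec c16 ^ 2 ^ 3 = ec (dbl (dbl (dbl c16))) := by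
    rw [ec_dbl, ec_dbl, ec_dbl, ← pow_mul, ← pow_mul, show 2 ^ 3 = 2 * (2 * 2) by norm_num]
  have e16 : ec c16 ^ 2 ^ (3 + 1) = ec (dbl (dbl (dbl (dbl c16)))) := by
    rw [ec_dbl, ec_dbl, ec_dbl, ec_dbl, ← pow_mul, ← pow_mul, ← pow_mul, show 2 ^ (3 + 1) = 2 * (2 * (2 * 2)) by norm_num]
  have h : orderOf (ec c16) = 2 ^ (3 + 1) := by
    apply orderOf_eq_prime_pow
    · rw [e8, ← ec_zero]
      intro h
      have h1 := ec_inj (by decide +kernel) (by norm_num) h
      exact absurd h1 (by decide +kernel)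
    · rw [e16, show dbl (dbl (dbl (dbl c16))) = 0 by decide +kernel, ec_zero]
  rw [h]
  norm_num

theorem exists_sixteen {X : Type*} [Group X] (h : Lie.IsoTits X) : ∃ x : X, orderOf x = 16 := by
  obtain ⟨e⟩ := CpAutTits.Row.exists_equiv h
  exact ⟨e.symm ⟨ec c16, c16_mem⟩, by rw [MulEquiv.orderOf_eq, order_c16]⟩

end Cfsg.Agent.H403.Tits

private theorem dce_55e92ef4ae97 : _root_.True := by
  try have : _root_.True := by simp only [_root_.Cfsg.Agent.H403.Tits.dbl.eq_1]
  exact _root_.True.intro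
end
end
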