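import Mathlib
import Cfsg.Agent.S0755
import Cfsg.Agent.ClassicalGeometry.GUBasic
import Cfsg.Agent.Prune
set_option linter.all false
prune_inst 0x7f00000000000000000000000000000000000000000000000000000000000000000000000000000000000000000000000000000000000000000000000000000000000000000000000000000000000000003fffffffffffffffffffffffffffbeffbdffffffff
open scoped Cfsg.Agent.FastGrp

/-!
# Elements of tori of unitary groups (helper403)

`HElt F q n N` : there is an `n × n` unitary matrix over `F` (`#F = q ^ 2`) of order `N`.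
* `hElt_odd` : `i` odd, `N ∣ q ^ i + 1` : `HElt F q i N`;
* `hElt_even` : `N ∣ q ^ (2 m) - 1` : `HElt F q (2 m) N`;
* `HElt.succ` : `HElt F q n N → HElt F q (n + 1) N`.
* `exists_mat_lin` : `N ∣ q ^ i - 1` : there is an `i × i` matrix of order `N` over the field of `q` elements.
-/

set_option autoImplicit false
set_option linter.unusedSectionVars false

namespace Cfsg.Agent.H403

open Matrix

section

variable {F : Type*} [Field F]

/-- there is a unitary matrix of order `N` -/
def HElt (F : Type*) [Field F] (q n N : ℕ) : Prop :=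
  ∃ M : Matrix (Fin n) (Fin n) F, Mᵀ * M.map (fun x => x ^ q) = 1 ∧ orderOf M = N

theorem HElt.succ {q n N : ℕ} (hq : q ≠ 0) (h : HElt F q n N) : HElt F q (n + 1) N := by
  obtain ⟨M, hM, ho⟩ := h
  let f : Matrix (Fin n) (Fin n) F →* Matrix (Fin n ⊕ Fin 1) (Fin n ⊕ Fin 1) F :=
    { toFun := fun A => fromBlocks A 0 0 1
      map_one' := fromBlocks_one
      map_mul' := fun A B => by rw [fromBlocks_multiply]; simp }
  have hf : Function.Injective f := by
    intro A B hAB
    exact (fromBlocks_inj.1 hAB).1
  let e : Matrix (Fin n ⊕ Fin 1) (Fin n ⊕ Fin 1) F ≃* Matrix (Fin (n + 1)) (Fin (n + 1)) F :=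
    (reindexAlgEquiv F F finSumFinEquiv).toMulEquiv
  refine ⟨e (f M), ?_, ?_⟩
  · have h1 : (f M)ᵀ * (f M).map (fun x => x ^ q) = 1 := by
      change (fromBlocks M 0 0 1)ᵀ * (fromBlocks M 0 0 1).map (fun x => x ^ q) = 1
      have h2 : (fromBlocks M 0 0 (1 : Matrix (Fin 1) (Fin 1) F)).map (fun x => x ^ q) =
          fromBlocks (M.map fun x => x ^ q) 0 0 1 := by
        ext i j
        rcases i with i | i <;> rcases j with j | j
        · rfl
        · simp [zero_pow hq]
        · simp [zero_pow hq]
        · have : i = j := Subsingleton.elim _ _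
          subst this
          simp
      rw [h2, fromBlocks_transpose, fromBlocks_multiply]
      simp only [Matrix.transpose_zero, Matrix.zero_mul, add_zero, Matrix.mul_zero, Matrix.transpose_one,
        Matrix.one_mul, zero_add, hM]
      exact fromBlocks_one
    have h3 : (e (f M))ᵀ * (e (f M)).map (fun x => x ^ q) = e ((f M)ᵀ * (f M).map (fun x => x ^ q)) := by
      rw [map_mul]
      congr 1
    rw [h3, h1, map_one]
  · rw [e.orderOf_eq, orderOf_injective f hf, ho]

theorem exists_mat_lin [Fintype F] {q i N : ℕ} (hF : Fintype.card F = q) (hi : 1 ≤ i) (hN : N ∣ q ^ i - 1) :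
    ∃ M : Matrix (Fin i) (Fin i) F, orderOf M = N := by
  obtain ⟨p, hp⟩ := CharP.exists F
  obtain ⟨k, hpp, hk⟩ := FiniteField.card F p
  have := Fact.mk hpp
  have : NeZero i := ⟨by omega⟩
  have : Finite (FiniteField.Extension F p i) := inferInstance
  have hcard : Nat.card (FiniteField.Extension F p i)ˣ = q ^ i - 1 := by
    rw [Nat.card_units, FiniteField.natCard_extension, Nat.card_eq_fintype_card, hF]
  obtain ⟨z, hz⟩ := IsCyclic.exists_ofOrder_eq_natCard (α := (FiniteField.Extension F p i)ˣ)
  obtain ⟨c, hc⟩ := hN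
  have hq1 : 1 < q ^ i := by
    rw [← hF]
    exact Nat.one_lt_pow (by omega) Fintype.one_lt_card
  have hc0 : c ≠ 0 := by
    rintro rfl
    rw [mul_zero] at hc
    omega
  have hN0 : 0 < N := Nat.pos_of_ne_zero (by rintro rfl; rw [zero_mul] at hc; omega)
  have h1 : orderOf (z ^ c) = N := by
    rw [orderOf_pow_of_dvd hc0 (by rw [hz, hcard, hc]; exact Dvd.intro_left _ rfl), hz, hcard, hc]
    exact Nat.mul_div_cancel _ (Nat.pos_of_ne_zero hc0)
  have hfr : Module.finrank F (FiniteField.Extension F p i) = i := FiniteField.finrank_extension F p i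
  let b : Module.Basis (Fin i) F (FiniteField.Extension F p i) := Module.finBasisOfFinrankEq _ _ hfr
  refine ⟨Algebra.leftMulMatrix b ((z ^ c : (FiniteField.Extension F p i)ˣ) : FiniteField.Extension F p i), ?_⟩
  have h2 := orderOf_injective (Algebra.leftMulMatrix b).toRingHom.toMonoidHom
    (Algebra.leftMulMatrix_injective b) ((z ^ c : (FiniteField.Extension F p i)ˣ) : FiniteField.Extension F p i)
  exact h2.trans (by rw [orderOf_units, h1])

theorem HElt.of [Fintype F] {q : ℕ} (hF : Fintype.card F = q ^ 2) {V : Type*} [AddCommGroup V] [Module F V]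
    [FiniteDimensional F V] (σ : F →+* F) (hσ : ∀ a, σ a = a ^ q) (B : V →ₛₗ[σ] V →ₗ[F] F) (hS : B.IsSymm)
    (hB : B.Nondegenerate) (g : Module.End F V) (hg : ∀ x y, B (g x) (g y) = B x y) {n N : ℕ}
    (hn : Module.finrank F V = n) (ho : orderOf g = N) : HElt F q n N := by
  subst hn
  have hσ2 : ∀ a : F, σ (σ a) = a := by
    intro a
    rw [hσ, hσ, ← pow_mul, ← sq, ← hF, FiniteField.pow_card]
  have hσ1 : σ ≠ RingHom.id F := by
    intro h
    obtain ⟨z, hz⟩ := IsCyclic.exists_ofOrder_eq_natCard (α := Fˣ)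
    have h1 : z ^ q = z := by
      apply Units.ext
      rw [Units.val_pow_eq_pow_val, ← hσ, h]
      rfl
    have hq : 2 ≤ q := by
      have h1 : 1 < Fintype.card F := Fintype.one_lt_card
      rw [hF] at h1
      nlinarith
    have h2 : z ^ (q - 1) = 1 := by
      have h3 : z ^ (q - 1) * z = z := by
        rw [← pow_succ, show q - 1 + 1 = q by omega, h1]
      exact mul_eq_right.1 h3
    have h3 := orderOf_dvd_of_pow_eq_one h2
    rw [hz, Nat.card_units, Nat.card_eq_fintype_card, hF] at h3
    have h4 := Nat.le_of_dvd (by omega) h3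
    have h5 : q < q ^ 2 := by nlinarith
    omega
  obtain ⟨b, hb⟩ := S0755.result σ hσ1 hσ2 B hS hB
  refine ⟨LinearMap.toMatrixAlgEquiv b g, ?_, ?_⟩
  · ext i j
    rw [Matrix.mul_apply]
    have h1 : ∀ j, g (b j) = ∑ k, (LinearMap.toMatrixAlgEquiv b g) k j • b k := by
      intro j
      conv_lhs => rw [← b.sum_repr (g (b j))]
      simp only [LinearMap.toMatrixAlgEquiv_apply]
    have h2 := hg (b j) (b i)
    rw [h1 j, h1 i, hb] at h2
    simp only [map_sum, LinearMap.sum_apply, map_smul, LinearMap.smul_apply, LinearMap.map_smulₛₗ, hb, smul_eq_mul,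
      mul_ite, mul_one, mul_zero, Finset.sum_ite_eq', Finset.mem_univ, if_true] at h2
    rw [Matrix.one_apply]
    simp only [Matrix.transpose_apply, Matrix.map_apply]
    have h3 : (if i = j then (1 : F) else 0) = if j = i then 1 else 0 := by simp only [eq_comm]
    rw [h3, ← h2]
    refine Finset.sum_congr rfl fun k _ => ?_
    rw [hσ, mul_comm]
  · rw [← ho]
    exact orderOf_injective (LinearMap.toMatrixAlgEquiv b).toRingEquiv.toRingHom.toMonoidHom
      (LinearMap.toMatrixAlgEquiv b).injective g

end

end Cfsg.Agent.H403
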