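import Cfsg.Agent.H403.TorusList
set_option linter.all false

/-!
# `TL q n L` for `n ≤ 4` (helper403)
-/

set_option autoImplicit false

namespace Cfsg.Agent.H403

theorem TL.cases {q n L : ℕ} (h : TL q n L) :
    L = 1 ∨ ∃ (n' k L' : ℕ), n = n' + k ∧ 1 ≤ k ∧ TL q n' L' ∧
      (L = Nat.lcm (q ^ k - 1) L' ∨ L = Nat.lcm (q ^ k + 1) L') := by
  cases h with
  | one => exact Or.inl rfl
  | pos k hk h => exact Or.inr ⟨_, k, _, rfl, hk, h, Or.inl rfl⟩
  | neg k hk h => exact Or.inr ⟨_, k, _, rfl, hk, h, Or.inr rfl⟩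

theorem sub_one_dvd_sq (q : ℕ) : q - 1 ∣ q ^ 2 - 1 := by
  simpa using Nat.sub_dvd_pow_sub_pow q 1 2

theorem add_one_dvd_sq (q : ℕ) : q + 1 ∣ q ^ 2 - 1 := by
  have h : q ^ 2 - 1 = (q + 1) * (q - 1) := by rw [← Nat.sq_sub_sq, one_pow]
  exact ⟨_, h⟩

theorem sub_one_dvd_cube (q : ℕ) : q - 1 ∣ q ^ 3 - 1 := by
  simpa using Nat.sub_dvd_pow_sub_pow q 1 3

theorem add_one_dvd_cube (q : ℕ) : q + 1 ∣ q ^ 3 + 1 := by
  simpa using Odd.nat_add_dvd_pow_add_pow q 1 (n := 3) (by decide)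

theorem sq_sub_one_dvd_four (q : ℕ) : q ^ 2 - 1 ∣ q ^ 4 - 1 := by
  have := Nat.sub_dvd_pow_sub_pow (q ^ 2) 1 2
  rwa [one_pow, ← pow_mul] at this

theorem four_eq (q : ℕ) : q ^ 4 - 1 = (q ^ 2 + 1) * (q ^ 2 - 1) := by
  have : q ^ 4 - 1 = (q ^ 2) ^ 2 - 1 ^ 2 := by rw [one_pow, ← pow_mul]
  rw [this, Nat.sq_sub_sq]

theorem sq_add_one_dvd_four (q : ℕ) : q ^ 2 + 1 ∣ q ^ 4 - 1 := ⟨_, four_eq q⟩

theorem TL.zero {q L : ℕ} (h : TL q 0 L) : L = 1 := by
  rcases h.cases with h | ⟨n', k, L', h1, h2, -⟩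
  · exact h
  · omega

theorem TL.one' {q L : ℕ} (h : TL q 1 L) : L ∣ q - 1 ∨ L ∣ q + 1 := by
  rcases h.cases with h | ⟨n', k, L', h1, h2, h3, h4⟩
  · rw [h]; exact Or.inl (one_dvd _)
  · obtain ⟨rfl, rfl⟩ : n' = 0 ∧ k = 1 := by omega
    rw [h3.zero, Nat.lcm_one_right, Nat.lcm_one_right, pow_one] at h4
    rcases h4 with rfl | rfl
    · exact Or.inl dvd_rfl
    · exact Or.inr dvd_rfl

theorem TL.two {q L : ℕ} (h : TL q 2 L) : L ∣ q ^ 2 - 1 ∨ L ∣ q ^ 2 + 1 := by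
  rcases h.cases with h | ⟨n', k, L', h1, h2, h3, h4⟩
  · rw [h]; exact Or.inl (one_dvd _)
  · obtain ⟨rfl, rfl⟩ | ⟨rfl, rfl⟩ : (n' = 0 ∧ k = 2) ∨ (n' = 1 ∧ k = 1) := by omega
    · rw [h3.zero, Nat.lcm_one_right, Nat.lcm_one_right] at h4
      rcases h4 with rfl | rfl
      · exact Or.inl dvd_rfl
      · exact Or.inr dvd_rfl
    · left
      have h5 : L' ∣ q ^ 2 - 1 := by
        rcases h3.one' with h | h
        · exact h.trans (sub_one_dvd_sq q)
        · exact h.trans (add_one_dvd_sq q)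
      rw [pow_one] at h4
      rcases h4 with rfl | rfl
      · exact Nat.lcm_dvd (sub_one_dvd_sq q) h5
      · exact Nat.lcm_dvd (add_one_dvd_sq q) h5

theorem TL.three {q L : ℕ} (h : TL q 3 L) : L ∣ q ^ 3 - 1 ∨ L ∣ q ^ 3 + 1 ∨ L ∣ (q ^ 2 + 1) * (q - 1) ∨
    L ∣ (q ^ 2 + 1) * (q + 1) ∨ L ∣ q ^ 2 - 1 := by
  rcases h.cases with h | ⟨n', k, L', h1, h2, h3, h4⟩
  · rw [h]; exact Or.inl (one_dvd _)
  · obtain ⟨rfl, rfl⟩ | ⟨rfl, rfl⟩ | ⟨rfl, rfl⟩ :
      (n' = 0 ∧ k = 3) ∨ (n' = 1 ∧ k = 2) ∨ (n' = 2 ∧ k = 1) := by omega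
    · rw [h3.zero, Nat.lcm_one_right, Nat.lcm_one_right] at h4
      rcases h4 with rfl | rfl
      · exact Or.inl dvd_rfl
      · exact Or.inr (Or.inl dvd_rfl)
    · rcases h4 with rfl | rfl
      · right; right; right; right
        refine Nat.lcm_dvd dvd_rfl ?_
        rcases h3.one' with h | h
        · exact h.trans (sub_one_dvd_sq q)
        · exact h.trans (add_one_dvd_sq q)
      · rcases h3.one' with h | h
        · right; right; left
          exact Nat.lcm_dvd (Dvd.intro _ rfl) (h.trans (Dvd.intro_left _ rfl))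
        · right; right; right; left
          exact Nat.lcm_dvd (Dvd.intro _ rfl) (h.trans (Dvd.intro_left _ rfl))
    · rw [pow_one] at h4
      rcases h3.two with h6 | h6
      · right; right; right; right
        rcases h4 with rfl | rfl
        · exact Nat.lcm_dvd (sub_one_dvd_sq q) h6
        · exact Nat.lcm_dvd (add_one_dvd_sq q) h6
      · rcases h4 with rfl | rfl
        · right; right; left
          exact Nat.lcm_dvd (Dvd.intro_left _ rfl) (h6.trans (Dvd.intro _ rfl))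
        · right; right; right; left
          exact Nat.lcm_dvd (Dvd.intro_left _ rfl) (h6.trans (Dvd.intro _ rfl))

theorem TL.four {q L : ℕ} (h : TL q 4 L) : L ∣ q ^ 4 + 1 ∨ L ∣ q ^ 4 - 1 ∨ L ∣ Nat.lcm (q ^ 3 - 1) (q + 1) ∨
    L ∣ Nat.lcm (q ^ 3 + 1) (q - 1) := by
  have h1m : q - 1 ∣ q ^ 4 - 1 := (sub_one_dvd_sq q).trans (sq_sub_one_dvd_four q)
  have h1p : q + 1 ∣ q ^ 4 - 1 := (add_one_dvd_sq q).trans (sq_sub_one_dvd_four q)
  rcases h.cases with h | ⟨n', k, L', h1, h2, h3, h4⟩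
  · rw [h]; exact Or.inl (one_dvd _)
  · obtain ⟨rfl, rfl⟩ | ⟨rfl, rfl⟩ | ⟨rfl, rfl⟩ | ⟨rfl, rfl⟩ :
      (n' = 0 ∧ k = 4) ∨ (n' = 1 ∧ k = 3) ∨ (n' = 2 ∧ k = 2) ∨ (n' = 3 ∧ k = 1) := by omega
    · rw [h3.zero, Nat.lcm_one_right, Nat.lcm_one_right] at h4
      rcases h4 with rfl | rfl
      · exact Or.inr (Or.inl dvd_rfl)
      · exact Or.inl dvd_rfl
    · rcases h4 with rfl | rfl
      · right; right; left
        refine Nat.lcm_dvd (Nat.dvd_lcm_left _ _) ?_
        rcases h3.one' with h | h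
        · exact (h.trans (sub_one_dvd_cube q)).trans (Nat.dvd_lcm_left _ _)
        · exact h.trans (Nat.dvd_lcm_right _ _)
      · right; right; right
        refine Nat.lcm_dvd (Nat.dvd_lcm_left _ _) ?_
        rcases h3.one' with h | h
        · exact h.trans (Nat.dvd_lcm_right _ _)
        · exact (h.trans (add_one_dvd_cube q)).trans (Nat.dvd_lcm_left _ _)
    · right; left
      have h5 : L' ∣ q ^ 4 - 1 := by
        rcases h3.two with h | h
        · exact h.trans (sq_sub_one_dvd_four q)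
        · exact h.trans (sq_add_one_dvd_four q)
      rcases h4 with rfl | rfl
      · exact Nat.lcm_dvd (sq_sub_one_dvd_four q) h5
      · exact Nat.lcm_dvd (sq_add_one_dvd_four q) h5
    · rw [pow_one] at h4
      rcases h3.three with h6 | h6 | h | h | h
      · right; right; left
        rcases h4 with rfl | rfl
        · exact Nat.lcm_dvd ((sub_one_dvd_cube q).trans (Nat.dvd_lcm_left _ _)) (h6.trans (Nat.dvd_lcm_left _ _))
        · exact Nat.lcm_dvd (Nat.dvd_lcm_right _ _) (h6.trans (Nat.dvd_lcm_left _ _))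
      · right; right; right
        rcases h4 with rfl | rfl
        · exact Nat.lcm_dvd (Nat.dvd_lcm_right _ _) (h6.trans (Nat.dvd_lcm_left _ _))
        · exact Nat.lcm_dvd ((add_one_dvd_cube q).trans (Nat.dvd_lcm_left _ _)) (h6.trans (Nat.dvd_lcm_left _ _))
      · right; left
        have h5 : L' ∣ q ^ 4 - 1 := by
          rw [four_eq]
          exact h.trans (Nat.mul_dvd_mul_left _ (sub_one_dvd_sq q))
        rcases h4 with rfl | rfl
        · exact Nat.lcm_dvd h1m h5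
        · exact Nat.lcm_dvd h1p h5
      · right; left
        have h5 : L' ∣ q ^ 4 - 1 := by
          rw [four_eq]
          exact h.trans (Nat.mul_dvd_mul_left _ (add_one_dvd_sq q))
        rcases h4 with rfl | rfl
        · exact Nat.lcm_dvd h1m h5
        · exact Nat.lcm_dvd h1p h5
      · right; left
        have h5 : L' ∣ q ^ 4 - 1 := h.trans (sq_sub_one_dvd_four q)
        rcases h4 with rfl | rfl
        · exact Nat.lcm_dvd h1m h5
        · exact Nat.lcm_dvd h1p h5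

end Cfsg.Agent.H403
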