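import Mathlib
import Cfsg.Agent.Schreier.Bridge
import Cfsg.Agent.FastGrp
import Cfsg.Agent.Prune
set_option linter.all false
prune_inst 0x7f00000000000000000000000000000000000000000000000000000000000000000000000000000000000000000000000000000000000000000000000000000000000000000000000000000000000000003fffffffffffffffffffffffffffbeffbdffffffff
open scoped Cfsg.Agent.FastGrp

/-!
# Composition factors of a group with one nonabelian composition factor (helper403)

`comp_iso` : `K` a solvable normal subgroup of a finite group `G`, `S` a simple nonabelian normal subgroup of `G ⧸ K`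
with trivial centralizer and with the Schreier property; then every nonabelian composition factor `H ⧸ N` of `G`
(`H` subnormal, `N` normal in `H`) is isomorphic to `S`.
-/

set_option autoImplicit false

namespace Cfsg.Agent.H403

open Subgroup

universe u

/-- the inner automorphisms are normal -/
instance innNormal {K : Type*} [Group K] : ((MulAut.conj : K →* MulAut K).range).Normal := by
  constructor
  rintro _ ⟨k, rfl⟩ φ
  refine ⟨φ k, ?_⟩
  ext x
  simp [MulAut.conj_apply]

/-- the quotient by a simple normal subgroup with trivial centralizer embeds in the outer automorphism group -/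
theorem solvable_quotient {A : Type*} [Group A] [Finite A] (S : Subgroup A) [S.Normal]
    (hS : Schreier.Basic.Sch ↥S) (hc : centralizer (S : Set A) = ⊥) : Group.IsSolvable (A ⧸ S) := by
  have hsol : Group.IsSolvable (MulAut ↥S ⧸ (MulAut.conj : ↥S →* MulAut ↥S).range) :=
    (Schreier.Bridge.sch_iff inferInstance).1 hS
  let φ : A →* MulAut ↥S := MulAut.conjNormal
  let ψ : A →* (MulAut ↥S ⧸ (MulAut.conj : ↥S →* MulAut ↥S).range) := (QuotientGroup.mk' _).comp φ
  have hker : ψ.ker = S := by
    ext a
    constructor
    · intro ha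
      have h1 : φ a ∈ (MulAut.conj : ↥S →* MulAut ↥S).range := by
        have : ψ a = 1 := ha
        rwa [MonoidHom.comp_apply, QuotientGroup.mk'_apply, QuotientGroup.eq_one_iff] at this
      obtain ⟨s, hs⟩ := h1
      have h2 : (s : A)⁻¹ * a ∈ centralizer (S : Set A) := by
        rw [mem_centralizer_iff]
        intro x hx
        have h3 := congrArg (fun f : MulAut ↥S => ((f ⟨x, hx⟩ : ↥S) : A)) hs
        simp only [MulAut.conj_apply, Subgroup.coe_mul, Subgroup.coe_inv, φ, MulAut.conjNormal_apply] at h3
        have h4 : a * x = s * x * (s : A)⁻¹ * a := by rw [h3]; group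
        calc x * ((s : A)⁻¹ * a) = (s : A)⁻¹ * (s * x * (s : A)⁻¹ * a) := by group
          _ = (s : A)⁻¹ * (a * x) := by rw [h4]
          _ = (s : A)⁻¹ * a * x := by group
      rw [hc, mem_bot, inv_mul_eq_one] at h2
      rw [← h2]
      exact s.2
    · intro ha
      rw [MonoidHom.mem_ker, MonoidHom.comp_apply, QuotientGroup.mk'_apply, QuotientGroup.eq_one_iff]
      refine ⟨⟨a, ha⟩, ?_⟩
      ext x
      simp [φ, MulAut.conj_apply, MulAut.conjNormal_apply]
  have h6 : Function.Injective (QuotientGroup.lift S ψ (fun a ha => by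
      have : a ∈ ψ.ker := by rw [hker]; exact ha
      exact this)) := by
    rw [injective_iff_map_eq_one]
    intro x hx
    obtain ⟨a, rfl⟩ := QuotientGroup.mk'_surjective S x
    have h7 : a ∈ ψ.ker := hx
    rw [hker] at h7
    rwa [QuotientGroup.mk'_apply, QuotientGroup.eq_one_iff]
  exact Group.isSolvable_of_isSolvable_injective h6

/-- a surjective image of a solvable group is not simple nonabelian -/
theorem not_solvable_of_simple {X : Type*} [Group X] (hs : IsSimpleGroup X) (hna : ¬ IsMulCommutative X) :
    ¬ Group.IsSolvable X := by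
  intro h
  apply hna
  exact ⟨⟨fun a b => (IsSimpleGroup.comm_iff_isSolvable.2 h) a b⟩⟩

/-- **Composition factors.** -/
theorem comp_iso {G : Type*} [Group G] [Finite G] (K : Subgroup G) [K.Normal] (hK : Group.IsSolvable ↥K)
    (S : Subgroup (G ⧸ K)) [hSn : S.Normal] (hSs : IsSimpleGroup ↥S) (hsch : Schreier.Basic.Sch ↥S)
    (hc : centralizer (S : Set (G ⧸ K)) = ⊥) (H : Subgroup G) (hH : H.IsSubnormal) (N : Subgroup ↥H) [N.Normal]
    (hs : IsSimpleGroup (↥H ⧸ N)) (hna : ¬ IsMulCommutative (↥H ⧸ N)) : Nonempty ((↥H ⧸ N) ≃* ↥S) := by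
  have hns := not_solvable_of_simple hs hna
  have hq : Group.IsSolvable ((G ⧸ K) ⧸ S) := solvable_quotient S hsch hc
  set π : G →* G ⧸ K := QuotientGroup.mk' K with hπ
  -- `A = H ∩ K ≤ N`
  have hA : K.subgroupOf H ≤ N := by
    have hn : ((K.subgroupOf H).map (QuotientGroup.mk' N)).Normal :=
      Subgroup.Normal.map inferInstance _ (QuotientGroup.mk'_surjective N)
    rcases hn.eq_bot_or_eq_top with h | h
    · rw [Subgroup.map_eq_bot_iff, QuotientGroup.ker_mk'] at h
      exact h
    · exfalso
      apply hns
      have h1 : Group.IsSolvable ↥(K.subgroupOf H) := by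
        refine Group.isSolvable_of_isSolvable_injective (f := H.subtype.subgroupComap K) ?_
        intro x y hxy
        have := congrArg (fun z : ↥K => (z : G)) hxy
        exact Subtype.ext (Subtype.ext this)
      have h2 : Function.Surjective ((QuotientGroup.mk' N).comp (K.subgroupOf H).subtype) := by
        intro x
        have hx : x ∈ (K.subgroupOf H).map (QuotientGroup.mk' N) := by rw [h]; exact mem_top x
        obtain ⟨y, hy, hyx⟩ := hx
        exact ⟨⟨y, hy⟩, hyx⟩
      exact Group.isSolvable_of_surjective h2
  -- `B = H ∩ M`, `M` the preimage of `S`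
  set B : Subgroup ↥H := (S.comap π).subgroupOf H with hB
  have hBn : (B.map (QuotientGroup.mk' N)).Normal :=
    Subgroup.Normal.map inferInstance _ (QuotientGroup.mk'_surjective N)
  have hBt : B.map (QuotientGroup.mk' N) = ⊤ := by
    rcases hBn.eq_bot_or_eq_top with h | h
    · exfalso
      apply hns
      rw [Subgroup.map_eq_bot_iff, QuotientGroup.ker_mk'] at h
      let f : ↥H →* (G ⧸ K) ⧸ S := ((QuotientGroup.mk' S).comp π).comp H.subtype
      have hf : f.ker = B := by
        ext x
        rw [MonoidHom.mem_ker, hB, mem_subgroupOf, mem_comap]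
        simp only [f, MonoidHom.comp_apply, Subgroup.coe_subtype]
        rw [QuotientGroup.mk'_apply, QuotientGroup.eq_one_iff]
      have h1 : Group.IsSolvable f.range := inferInstance
      have h2 : Group.IsSolvable (↥H ⧸ f.ker) :=
        Group.isSolvable_of_isSolvable_injective (f := (QuotientGroup.quotientKerEquivRange f).toMonoidHom)
          (QuotientGroup.quotientKerEquivRange f).injective
      have h3 : f.ker ≤ N := hf.le.trans h
      have h4 : Function.Surjective (QuotientGroup.map f.ker N (MonoidHom.id ↥H) h3) := by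
        intro x
        obtain ⟨y, rfl⟩ := QuotientGroup.mk'_surjective N x
        exact ⟨QuotientGroup.mk y, rfl⟩
      exact Group.isSolvable_of_surjective h4
    · exact h
  have hsurjX : Function.Surjective ((QuotientGroup.mk' N).comp B.subtype) := by
    intro x
    have hx : x ∈ B.map (QuotientGroup.mk' N) := by rw [hBt]; exact mem_top x
    obtain ⟨y, hy, hyx⟩ := hx
    exact ⟨⟨y, hy⟩, hyx⟩
  -- the map `B → S`
  let φ : ↥B →* ↥S := (π.comp (H.subtype.comp B.subtype)).codRestrict S (fun b => b.2)
  have hφv : ∀ b : ↥B, ((φ b : ↥S) : G ⧸ K) = π ((b : ↥H) : G) := fun b => rfl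
  have hφker : ∀ b : ↥B, φ b = 1 → ((QuotientGroup.mk' N).comp B.subtype) b = 1 := by
    intro b hb
    have h1 : ((b : ↥H) : G) ∈ K := by
      have := hφv b
      rw [hb, OneMemClass.coe_one] at this
      exact (QuotientGroup.eq_one_iff _).1 this.symm
    have h2 : (b : ↥H) ∈ N := hA h1
    simp only [MonoidHom.comp_apply, Subgroup.coe_subtype]
    rwa [QuotientGroup.mk'_apply, QuotientGroup.eq_one_iff]
  have hsub : φ.range.IsSubnormal := by
    have h1 : (H.map π).IsSubnormal := hH.map (QuotientGroup.mk'_surjective K)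
    have h2 : ((H.map π).subgroupOf S).IsSubnormal := h1.subgroupOf
    have h3 : φ.range = (H.map π).subgroupOf S := by
      ext x
      constructor
      · rintro ⟨b, rfl⟩
        rw [mem_subgroupOf]
        exact ⟨(b : ↥H), (b : ↥H).2, rfl⟩
      · intro hx
        rw [mem_subgroupOf] at hx
        obtain ⟨g, hg, hgx⟩ := hx
        refine ⟨⟨⟨g, hg⟩, ?_⟩, ?_⟩
        · rw [hB, mem_subgroupOf, mem_comap]
          change π g ∈ S
          rw [hgx]
          exact x.2
        · apply Subtype.ext
          exact hgx
    rw [h3]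
    exact h2
  have hnt : Nontrivial (↥H ⧸ N) := hs.toNontrivial
  have hφs : Function.Surjective φ := by
    rcases hsub.eq_bot_or_top_of_isSimpleGroup hSs with h | h
    · exfalso
      obtain ⟨x, hx⟩ := exists_ne (1 : ↥H ⧸ N)
      obtain ⟨b, hb⟩ := hsurjX x
      apply hx
      rw [← hb]
      apply hφker
      have : φ b ∈ φ.range := ⟨b, rfl⟩
      rw [h, mem_bot] at this
      exact this
    · exact MonoidHom.range_eq_top.1 h
  let θ : ↥S →* (↥H ⧸ N) := (MonoidHom.liftOfSurjective φ hφs)
    ⟨(QuotientGroup.mk' N).comp B.subtype, fun b hb => hφker b hb⟩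
  have hθ : ∀ b : ↥B, θ (φ b) = ((QuotientGroup.mk' N).comp B.subtype) b := fun b =>
    MonoidHom.liftOfRightInverse_comp_apply φ _ _ _ b
  have hθs : Function.Surjective θ := by
    intro x
    obtain ⟨b, hb⟩ := hsurjX x
    exact ⟨φ b, (hθ b).trans hb⟩
  have hθi : Function.Injective θ := by
    rw [← MonoidHom.ker_eq_bot_iff]
    rcases (inferInstance : θ.ker.Normal).eq_bot_or_eq_top with h | h
    · exact h
    · exfalso
      obtain ⟨x, hx⟩ := exists_ne (1 : ↥H ⧸ N)
      obtain ⟨s, rfl⟩ := hθs x
      apply hx
      have : s ∈ θ.ker := by rw [h]; exact mem_top s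
      exact this
  exact ⟨(MulEquiv.ofBijective θ ⟨hθi, hθs⟩).symm⟩

end Cfsg.Agent.H403
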