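import Cfsg.Agent.H395.Coclique
import Cfsg.Agent.S0058
import Cfsg.Agent.FastGrp
import Cfsg.Agent.Prune
set_option linter.all false
prune_inst 0x7f00000000000000000000000000000000000000000000000000000000000000000000000000000000000000000000000000000000000000000000000000000000000000000000000000000000000000003fffffffffffffffffffffffffffbeffbdffffffff
open scoped Cfsg.Agent.FastGrp

/-!
# Elements of order `p r` from a prime `p` dividing a normal subgroup (helper403)

`K` normal in the finite group `G`.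

* `false_of_rank` : `p ∣ |K|`, `r² ∣ |G|`, `r ∤ |K|`: there is an element of order `p r` or `r²`;
* `exists_lift` : lifting a `t`-group normalized by an element of order `r`;
* `false_of_frob` : `S ≤ G ⧸ K` simple, containing a `t`-group `A ≠ 1` normalized by an element of order `r`; then
  there is an element of order `p r` or `t r`.
-/

set_option autoImplicit false
set_option linter.unusedSectionVars false

namespace Cfsg.Agent.H403

open Subgroup Cfsg.Agent.H395.Coclique

theorem exists_sylow_frattini {G : Type*} [Group G] [Finite G] (K : Subgroup G) [K.Normal] {p : ℕ} (hp : p.Prime)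
    (hpK : p ∣ Nat.card ↥K) : ∃ P : Subgroup G, IsPGroup p ↥P ∧ P ≠ ⊥ ∧ P ≤ K ∧ normalizer (P : Set G) ⊔ K = ⊤ := by
  have := Fact.mk hp
  obtain ⟨P⟩ : Nonempty (Sylow p K) := inferInstance
  refine ⟨(P : Subgroup K).map K.subtype, P.isPGroup'.map _, ?_, ?_, Sylow.normalizer_sup_eq_top P⟩
  · intro h0
    have h1 : (P : Subgroup K) = ⊥ := by
      rw [Subgroup.map_eq_bot_iff_of_injective _ K.subtype_injective] at h0
      exact h0
    have h2 := P.card_eq_multiplicity
    rw [h1, Subgroup.card_bot] at h2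
    have h3 : (Nat.card K).factorization p = 0 := by
      by_contra hne
      exact (Nat.one_lt_pow hne hp.one_lt).ne h2
    have h4 := (Nat.Prime.factorization_pos_of_dvd hp (Nat.card_pos (α := K)).ne' hpK)
    omega
  · rintro _ ⟨y, -, rfl⟩
    exact y.2

theorem false_of_rank {G : Type*} [Group G] [Finite G] (K : Subgroup G) [K.Normal] {p r : ℕ} (hp : p.Prime)
    (hr : r.Prime) (hpr : p ≠ r) (hpK : p ∣ Nat.card ↥K) (hrK : ¬ r ∣ Nat.card ↥K) (hrG : r ^ 2 ∣ Nat.card G)
    (h1 : ¬ ∃ x : G, orderOf x = p * r) (h2 : ¬ ∃ x : G, orderOf x = r ^ 2) : False := by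
  have := Fact.mk hp
  have := Fact.mk hr
  obtain ⟨P, hPp, hP1, hPK, hF⟩ := exists_sylow_frattini K hp hpK
  have hd := relIndex_dvd (H := normalizer (P : Set G)) (K := K) (M := ⊤) hF le_top
  rw [top_inf_eq, Subgroup.card_top] at hd
  have hr2 : r ^ 2 ∣ Nat.card ↥(normalizer (P : Set G)) := by
    refine dvd_trans ?_ hd
    have h3 : Nat.card K * (Nat.card G / Nat.card K) = Nat.card G :=
      Nat.mul_div_cancel' (Subgroup.card_subgroup_dvd_card K)
    rw [← h3] at hrG
    exact (Nat.Coprime.dvd_mul_left (Nat.Coprime.pow_left 2 ((Nat.Prime.coprime_iff_not_dvd hr).2 hrK))).1 hrG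
  obtain ⟨R₀, hR₀⟩ := Sylow.exists_subgroup_card_pow_prime r hr2
  set R : Subgroup G := R₀.map (normalizer (P : Set G)).subtype with hR
  have hRc : Nat.card ↥R = r ^ 2 := by
    rw [hR, ← hR₀]
    exact (Nat.card_congr (R₀.equivMapOfInjective _ (Subgroup.subtype_injective _)).toEquiv).symm
  have hRp : IsPGroup r ↥R := IsPGroup.of_card hRc
  have hRa : IsMulCommutative ↥R := ⟨⟨(IsPGroup.isMulCommutative_of_card_eq_prime_sq hRc).is_comm.comm⟩⟩
  have hRn : ¬ IsCyclic ↥R := by
    intro hc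
    obtain ⟨g, hg⟩ := hc.exists_generator
    apply h2
    refine ⟨g, ?_⟩
    rw [Subgroup.orderOf_coe, ← hRc]
    exact orderOf_eq_card_of_forall_mem_zpowers hg
  have hRP : R ≤ normalizer (P : Set G) := by
    rintro _ ⟨y, -, rfl⟩
    exact y.2
  obtain ⟨a, ha⟩ := (IsPGroup.iff_card).mp hPp
  have hcop : (Nat.card R).Coprime (Nat.card P) := by
    rw [hRc, ha]
    exact Nat.Coprime.pow _ _ ((Nat.coprime_primes hr hp).2 hpr.symm)
  have hgen := S0058.result R P hRn hRP hcop
  apply hP1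
  rw [← hgen, iSup_eq_bot]
  intro x
  rw [iSup_eq_bot]
  rintro ⟨hx, hx1⟩
  rw [eq_bot_iff]
  intro u hu
  by_contra hu1
  obtain ⟨y, hy⟩ := exists_mul_of_commute' hp hr hpr hPp hRp (mem_inf.1 hu).1 hx (fun h => hu1 (mem_bot.2 h)) hx1
    ((mem_centralizer_iff.1 (mem_inf.1 hu).2 x rfl).symm)
  exact h1 ⟨y, hy⟩

/-- lifting a `t`-group normalized by an element of order `r` -/
theorem exists_lift {N Q : Type*} [Group N] [Group Q] [Finite N] (f : N →* Q) (hf : Function.Surjective f) {t r : ℕ}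
    (ht : t.Prime) (hr : r.Prime) (htr : t ≠ r) (A₀ : Subgroup Q) (hA₀ : IsPGroup t ↥A₀) (x₀ : Q)
    (hx₀ : orderOf x₀ = r) (hx₀n : x₀ ∈ normalizer (A₀ : Set Q)) :
    ∃ (T : Subgroup N) (x : N), IsPGroup t ↥T ∧ T.map f = A₀ ∧ orderOf x = r ∧ x ∈ normalizer (T : Set N) := by
  have := Fact.mk ht
  have := Fact.mk hr
  have hQf : Finite Q := Finite.of_surjective f hf
  set D : Subgroup Q := A₀ ⊔ zpowers x₀ with hD
  have hAD : A₀ ≤ D := le_sup_left
  have hDn : D ≤ normalizer (A₀ : Set Q) := by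
    rw [hD, sup_le_iff, zpowers_le]
    exact ⟨le_normalizer, hx₀n⟩
  set A : Subgroup N := A₀.comap f with hA
  set B : Subgroup N := D.comap f with hB
  have hAB : A ≤ B := Subgroup.comap_mono hAD
  set A' : Subgroup B := A.subgroupOf B with hA'
  have hA'n : A'.Normal := by
    constructor
    intro n hn g
    rw [hA', mem_subgroupOf, hA, mem_comap] at hn ⊢
    have hg : f (g : N) ∈ normalizer (A₀ : Set Q) := hDn g.2
    rw [Subgroup.coe_mul, Subgroup.coe_mul, Subgroup.coe_inv, map_mul, map_mul, map_inv]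
    exact (mem_normalizer_iff.1 hg _).1 hn
  obtain ⟨T₀⟩ : Nonempty (Sylow t A') := inferInstance
  set T' : Subgroup B := (T₀ : Subgroup A').map A'.subtype with hT'
  have hF : normalizer (T' : Set B) ⊔ A' = ⊤ := Sylow.normalizer_sup_eq_top T₀
  -- `r` divides the index
  have hidx : r ∣ A'.index := by
    have h1 : A'.index = A.relIndex B := rfl
    have h2 : A.relIndex B = A₀.relIndex D := by
      rw [hA, hB, Subgroup.relIndex_comap, Subgroup.map_comap_eq_self_of_surjective hf]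
    have h3 : Nat.card ↥A₀ * A₀.relIndex D = Nat.card ↥D := by
      have h30 := Subgroup.card_mul_index (A₀.subgroupOf D)
      rwa [Nat.card_congr (Subgroup.subgroupOfEquivOfLe hAD).toEquiv] at h30
    have h4 : r ∣ Nat.card ↥D := by
      have hx : x₀ ∈ D := (le_sup_right : zpowers x₀ ≤ D) (mem_zpowers x₀)
      have h5 := orderOf_dvd_natCard (⟨x₀, hx⟩ : D)
      rwa [Subgroup.orderOf_mk, hx₀] at h5
    rw [h1, h2]
    rw [← h3] at h4
    rcases hr.dvd_mul.1 h4 with h | h
    · exfalso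
      obtain ⟨a, ha⟩ := (IsPGroup.iff_card).mp hA₀
      rw [ha] at h
      exact htr ((Nat.prime_dvd_prime_iff_eq hr ht).1 (hr.dvd_of_dvd_pow h)).symm
    · exact h
  have hr2 : r ∣ Nat.card ↥(normalizer (T' : Set B)) := by
    have h1 := relIndex_dvd (H := normalizer (T' : Set B)) (K := A') (M := ⊤) hF le_top
    rw [top_inf_eq, Subgroup.card_top] at h1
    refine dvd_trans ?_ h1
    rwa [div_eq_index]
  obtain ⟨x, hx⟩ := exists_prime_orderOf_dvd_card' r hr2
  refine ⟨T'.map B.subtype, ((x : B) : N), (T₀.isPGroup'.map _).map _, ?_, ?_, ?_⟩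
  · -- the image
    let g : A' →* A₀ := (f.comp (B.subtype.comp A'.subtype)).codRestrict A₀ fun y => y.2
    have hg : Function.Surjective g := by
      rintro ⟨q, hq⟩
      obtain ⟨n, rfl⟩ := hf q
      exact ⟨⟨⟨n, hAD hq⟩, hq⟩, rfl⟩
    have h1 : ((T₀.mapSurjective hg : Sylow t A₀) : Subgroup A₀) = ⊤ := by
      have h2 := (T₀.mapSurjective hg).is_maximal' (Q := ⊤) ?_ le_top
      · exact h2.symm
      · exact hA₀.of_equiv Subgroup.topEquiv.symm
    rw [Sylow.coe_mapSurjective] at h1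
    apply le_antisymm
    · rintro _ ⟨_, ⟨_, ⟨y, hy, rfl⟩, rfl⟩, rfl⟩
      exact y.2
    · intro q hq
      have h2 : (⟨q, hq⟩ : A₀) ∈ (T₀ : Subgroup A').map g := by rw [h1]; trivial
      obtain ⟨y, hy, hyq⟩ := h2
      exact ⟨((y : B) : N), ⟨_, ⟨y, hy, rfl⟩, rfl⟩, congrArg Subtype.val hyq⟩
  · rw [Subgroup.orderOf_coe, Subgroup.orderOf_coe, hx]
  · have h1 : ((x : B) : N) ∈ (normalizer (T' : Set B)).map B.subtype := ⟨x, x.2, rfl⟩
    exact Subgroup.le_normalizer_map B.subtype h1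

theorem false_of_frob {G : Type*} [Group G] [Finite G] (K : Subgroup G) [K.Normal] (S : Subgroup (G ⧸ K)) [S.Normal]
    (hS : IsSimpleGroup ↥S) {p t r : ℕ} (hp : p.Prime) (ht : t.Prime) (hr : r.Prime) (hpt : p ≠ t) (hpr : p ≠ r)
    (htr : t ≠ r) (hpK : p ∣ Nat.card ↥K) (hrS : r ∣ Nat.card ↥S) (A₀ : Subgroup (G ⧸ K)) (hA₀ : IsPGroup t ↥A₀)
    (hA₀1 : A₀ ≠ ⊥) (hA₀S : A₀ ≤ S) (x₀ : G ⧸ K) (hx₀ : orderOf x₀ = r) (hx₀n : x₀ ∈ normalizer (A₀ : Set (G ⧸ K)))
    (h1 : ¬ ∃ x : G, orderOf x = p * r) (h2 : ¬ ∃ x : G, orderOf x = t * r) : False := by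
  have := Fact.mk hp
  have := Fact.mk hr
  have := Fact.mk ht
  obtain ⟨P, hPp, hP1, hPK, hF⟩ := exists_sylow_frattini K hp hpK
  set N : Subgroup G := normalizer (P : Set G) with hN
  let f : N →* G ⧸ K := (QuotientGroup.mk' K).comp N.subtype
  have hf : Function.Surjective f := by
    intro q
    obtain ⟨g, rfl⟩ := QuotientGroup.mk'_surjective K q
    have hg : g ∈ N ⊔ K := by rw [hF]; trivial
    rw [Subgroup.mem_sup_of_normal_right] at hg
    obtain ⟨n, hn, k, hk, rfl⟩ := hg
    refine ⟨⟨n, hn⟩, ?_⟩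
    change QuotientGroup.mk' K n = QuotientGroup.mk' K (n * k)
    rw [map_mul, QuotientGroup.mk'_apply, QuotientGroup.mk'_apply, (QuotientGroup.eq_one_iff k).2 hk, mul_one]
  set C : Subgroup N := (centralizer (P : Set G)).subgroupOf N with hC
  have hCn : C.Normal := by
    constructor
    intro c hc n
    rw [hC, mem_subgroupOf, mem_centralizer_iff] at hc ⊢
    intro v hv
    have hn : (n : G)⁻¹ * v * n ∈ P := by
      have := (mem_normalizer_iff.1 (N.inv_mem n.2) v).1 hv
      rwa [inv_inv] at this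
    have h3 := hc _ hn
    rw [Subgroup.coe_mul, Subgroup.coe_mul, Subgroup.coe_inv]
    calc v * ((n : G) * c * (n : G)⁻¹) = n * (((n : G)⁻¹ * v * n) * c) * (n : G)⁻¹ := by group
      _ = n * (c * ((n : G)⁻¹ * v * n)) * (n : G)⁻¹ := by rw [h3]
      _ = _ := by group
  set D : Subgroup (G ⧸ K) := C.map f with hD
  have hDn : D.Normal := hCn.map f hf
  -- an element of order `p r` if `S ≤ D`
  have hSD : ¬ S ≤ D := by
    intro hle
    obtain ⟨s, hs⟩ := exists_prime_orderOf_dvd_card' r hrS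
    obtain ⟨c, hc, hcs⟩ := hle s.2
    have h3 : r ∣ orderOf (c : G) := by
      have h4 : orderOf (f c) ∣ orderOf c := orderOf_map_dvd f c
      rw [hcs, Subgroup.orderOf_coe, hs] at h4
      rwa [Subgroup.orderOf_coe]
    obtain ⟨m, hm⟩ := h3
    have hcpos : 0 < orderOf (c : G) := orderOf_pos _
    have hm0 : m ≠ 0 := by
      rintro rfl
      rw [hm, mul_zero] at hcpos
      exact lt_irrefl 0 hcpos
    have h5 : orderOf ((c : G) ^ m) = r := by
      rw [orderOf_pow' _ hm0, hm, Nat.gcd_eq_right (Dvd.intro_left r rfl), Nat.mul_div_cancel _ (Nat.pos_of_ne_zero hm0)]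
    obtain ⟨v, hv, hv1⟩ : ∃ v ∈ P, v ≠ 1 := by
      by_contra hno
      push Not at hno
      exact hP1 ((Subgroup.eq_bot_iff_forall P).mpr hno)
    obtain ⟨k, hk⟩ := exists_orderOf_eq hp hPp hv hv1
    have h6 : v * (c : G) = (c : G) * v := (mem_centralizer_iff.1 hc) v hv
    apply h1
    refine exists_mul_of_commute hp hr hpr hk h5 ?_
    exact (Commute.pow_pow (show Commute v (c : G) from h6) k m).eq
  obtain ⟨T, x, hT, hTA, hx, hxT⟩ := exists_lift f hf ht hr htr A₀ hA₀ x₀ hx₀ hx₀n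
  -- the group acting
  set U : Subgroup G := T.map N.subtype with hU
  set E : Subgroup G := zpowers (x : G) with hE
  have hxr : orderOf (x : G) = r := by rw [Subgroup.orderOf_coe, hx]
  have hUt : IsPGroup t U := hT.map _
  have hU1 : U ≠ ⊥ := by
    intro h
    rw [hU, Subgroup.map_eq_bot_iff_of_injective _ N.subtype_injective] at h
    apply hA₀1
    rw [← hTA, h, Subgroup.map_bot]
  have hEr : IsPGroup r E := by
    refine IsPGroup.of_card (n := 1) ?_
    rw [hE, Nat.card_zpowers, hxr, pow_one]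
  have hE1 : E ≠ ⊥ := by
    intro h
    rw [hE, zpowers_eq_bot] at h
    rw [h, orderOf_one] at hxr
    exact hr.one_lt.ne hxr
  have hUN : U ≤ N := by
    rintro _ ⟨y, -, rfl⟩
    exact y.2
  have hEN : E ≤ N := by rw [hE, zpowers_le]; exact x.2
  have hEU : E ≤ normalizer (U : Set G) := by
    rw [hE, zpowers_le]
    exact Subgroup.le_normalizer_map N.subtype ⟨x, hxT, rfl⟩
  have hcardP : ∃ a, Nat.card P = p ^ a := (IsPGroup.iff_card).mp hPp
  have hcardU : ∃ a, Nat.card U = t ^ a := (IsPGroup.iff_card).mp hUt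
  have hcardE : ∃ a, Nat.card E = r ^ a := (IsPGroup.iff_card).mp hEr
  obtain ⟨a, ha⟩ := hcardP
  obtain ⟨b, hb⟩ := hcardU
  obtain ⟨c, hc⟩ := hcardE
  have hsupdvd : Nat.card ↥(U ⊔ E) ∣ t ^ b * r ^ c := by
    have h4 := Cfsg.Agent.OddOrderLocal.IdealPrime.card_sup_dvd E U hEU
    rw [hb, hc, sup_comm, mul_comm] at h4
    exact h4
  have hcop : Nat.Coprime (Nat.card P) (Nat.card ↥(U ⊔ E)) := by
    refine Nat.Coprime.coprime_dvd_right hsupdvd ?_
    rw [ha]
    refine Nat.Coprime.mul_right ?_ ?_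
    · exact Nat.Coprime.pow _ _ ((Nat.coprime_primes hp ht).mpr hpt)
    · exact Nat.Coprime.pow _ _ ((Nat.coprime_primes hp hr).mpr hpr)
  have hS := Cfsg.Agent.S1545.result U E P hU1 hE1 ?_ ?_ ?_ ?_ ?_ ?_ hcop
  · have e2 : P ⊓ centralizer (E : Set G) = ⊥ := by
      rw [eq_bot_iff]
      intro u hu
      by_contra hu1
      have hcomm : u * x = x * u := by
        have := (mem_centralizer_iff.mp (mem_inf.mp hu).2) x (mem_zpowers _)
        exact this.symm
      exact h1 (exists_mul_of_commute' hp hr hpr hPp hEr (mem_inf.mp hu).1 (mem_zpowers _)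
        (fun h => hu1 (mem_bot.mpr h)) (fun h => by
          rw [h, orderOf_one] at hxr; exact hr.one_lt.ne hxr) hcomm)
    have e3 : P ⊓ centralizer ((U ⊔ E : Subgroup G) : Set G) = ⊥ := by
      rw [eq_bot_iff, ← e2]
      exact inf_le_inf_left _ (centralizer_le (SetLike.coe_subset_coe.mpr le_sup_right))
    rw [e2, e3] at hS
    simp only [Subgroup.card_bot, one_pow, one_mul] at hS
    have h3 : P ⊓ centralizer (U : Set G) = P := Subgroup.eq_of_le_of_card_ge inf_le_left hS.le
    -- `T ≤ C`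
    have h4 : A₀ ≤ D := by
      rw [← hTA, hD]
      refine Subgroup.map_mono fun y hy => ?_
      rw [hC, mem_subgroupOf, mem_centralizer_iff]
      intro v hv
      rw [SetLike.mem_coe, ← h3] at hv
      exact ((mem_centralizer_iff.1 (mem_inf.1 hv).2) y ⟨y, hy, rfl⟩).symm
    have h5 : (D.subgroupOf S).Normal := Subgroup.normal_subgroupOf
    rcases h5.eq_bot_or_eq_top with h6 | h6
    · apply hA₀1
      rw [eq_bot_iff]
      intro y hy
      have h7 : (⟨y, hA₀S hy⟩ : S) ∈ D.subgroupOf S := h4 hy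
      rw [h6, mem_bot] at h7
      exact congrArg Subtype.val h7
    · exact hSD (Subgroup.subgroupOf_eq_top.1 h6)
  · rw [← Subgroup.card_eq_one]
    have d1 : Nat.card ↥(U ⊓ E) ∣ t ^ b := hb ▸ Subgroup.card_dvd_of_le inf_le_left
    have d2 : Nat.card ↥(U ⊓ E) ∣ r ^ c := hc ▸ Subgroup.card_dvd_of_le inf_le_right
    have d3 : Nat.Coprime (t ^ b) (r ^ c) := Nat.Coprime.pow _ _ ((Nat.coprime_primes ht hr).mpr htr)
    exact Nat.eq_one_of_dvd_coprimes d3 d1 d2
  · intro e he u hu
    exact (mem_normalizer_iff.mp (hEU he) u).mp hu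
  · intro e he he1 u hu hcomm
    by_contra hu1
    exact h2 (exists_mul_of_commute' ht hr htr hUt hEr hu he hu1 he1 hcomm.symm)
  · intro y hy h hh
    have : U ⊔ E ≤ normalizer (P : Set G) := sup_le hUN hEN
    exact (mem_normalizer_iff.mp (this hy) h).mp hh
  · rw [← Subgroup.card_eq_one]
    exact Nat.eq_one_of_dvd_coprimes hcop (Subgroup.card_dvd_of_le inf_le_left)
      (Subgroup.card_dvd_of_le inf_le_right)
  · have : Group.IsNilpotent P := hPp.isNilpotent
    infer_instance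

end Cfsg.Agent.H403
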