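import Mathlib
import Cfsg.Agent.S0000
import Cfsg.Agent.S3632
import Cfsg.Agent.H12.KSch
import Cfsg.Agent.H403.CompFactor
import Cfsg.Agent.H403.NumSporMain
import Cfsg.Agent.H402.LwU43_m3
import Cfsg.Agent.OrdDiv.Table
import Cfsg.Agent.H403.GroupLift
import Cfsg.Agent.H94.Sp.Base_m3
import Cfsg.Agent.S3633
import Cfsg.Agent.FastGrp
import Cfsg.Agent.Prune
set_option linter.all false

section
prune_inst 0x7f00000000000000000000000000000000000000000000000000000000000000000000000000000000000000000000000000000000000000000000000000000000000000000000000000000000000000003fffffffffffffffffffffffffffbeffbdffffffff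

-- part: H403/Reduce
section
set_option linter.all false
open scoped Cfsg.Agent.FastGrp

/-!
# Reduction: a nonabelian composition factor of a group with an odd prime not joined to 2 (helper403)

* `exists_radical` : the largest solvable normal subgroup;
* `Struct G X` : `K` is a solvable normal subgroup, `S ≃* X` a normal subgroup of `G ⧸ K` with trivial centralizer, and
  for the odd primes `p` not joined to 2 every power of `p` dividing `#G` divides `#X`;
* `exists_struct` : if `G` has an odd prime not joined to 2 then every nonabelian composition factor `X` of `G`, not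
  isomorphic to `A₇` or `PSL(2, q)`, `q` odd, gives such a structure.
-/

set_option autoImplicit false

namespace Cfsg.Agent.H403

open Subgroup

theorem isSolvable_sup {G : Type*} [Group G] (K M : Subgroup G) [K.Normal] (hK : Group.IsSolvable ↥K)
    (hM : Group.IsSolvable ↥M) : Group.IsSolvable ↥(K ⊔ M) := by
  let f : ↥K →* ↥(K ⊔ M) := Subgroup.inclusion le_sup_left
  have h1 : ∀ x : ↥(K ⊔ M), (QuotientGroup.mk' K) (x : G) ∈ M.map (QuotientGroup.mk' K) := by
    intro x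
    have h2 : (K ⊔ M).map (QuotientGroup.mk' K) = M.map (QuotientGroup.mk' K) := by
      rw [Subgroup.map_sup, (Subgroup.map_eq_bot_iff _).2 (by rw [QuotientGroup.ker_mk']), bot_sup_eq]
    rw [← h2]
    exact ⟨x, x.2, rfl⟩
  let g : ↥(K ⊔ M) →* ↥(M.map (QuotientGroup.mk' K)) :=
    ((QuotientGroup.mk' K).comp (K ⊔ M).subtype).codRestrict _ h1
  have hM' : Group.IsSolvable ↥(M.map (QuotientGroup.mk' K)) :=
    Group.isSolvable_of_surjective (f := (QuotientGroup.mk' K).subgroupMap M)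
      ((QuotientGroup.mk' K).subgroupMap_surjective M)
  refine Group.isSolvable_of_ker_le_range f g ?_
  intro x hx
  have h3 : (QuotientGroup.mk' K) (x : G) = 1 := congrArg (fun z : ↥(M.map (QuotientGroup.mk' K)) => (z : G ⧸ K)) hx
  rw [QuotientGroup.mk'_apply, QuotientGroup.eq_one_iff] at h3
  exact ⟨⟨x, h3⟩, Subtype.ext rfl⟩

/-- the solvable radical -/
theorem exists_radical (G : Type*) [Group G] [Finite G] : ∃ K : Subgroup G, K.Normal ∧ Group.IsSolvable ↥K ∧
    ∀ M : Subgroup G, M.Normal → Group.IsSolvable ↥M → M ≤ K := by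
  classical
  obtain ⟨K, hK⟩ := Set.Finite.exists_maximal (s := {M : Subgroup G | M.Normal ∧ Group.IsSolvable ↥M})
    (Set.toFinite _) ⟨⊥, inferInstance, inferInstance⟩
  have hKn : K.Normal := hK.1.1
  refine ⟨K, hKn, hK.1.2, fun M hM hMs => ?_⟩
  have h1 : K ⊔ M ∈ {M : Subgroup G | M.Normal ∧ Group.IsSolvable ↥M} :=
    ⟨Subgroup.sup_normal K M, isSolvable_sup K M hK.1.2 hMs⟩
  exact le_sup_right.trans (hK.2 h1 le_sup_left)

/-- the structure of a group with an odd prime not joined to 2 and a composition factor `X` -/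
def Struct (G : Type*) [Group G] (X : Type*) [Group X] : Prop :=
  ∃ (K : Subgroup G) (_ : K.Normal) (S : Subgroup (G ⧸ K)) (_ : S.Normal), Group.IsSolvable ↥K ∧
    centralizer (S : Set (G ⧸ K)) = ⊥ ∧ Nonempty (↥S ≃* X) ∧
    ∀ p : ℕ, p.Prime → p ≠ 2 → p ∣ Nat.card G → (¬ ∃ x : G, orderOf x = 2 * p) →
      ∀ k : ℕ, p ^ k ∣ Nat.card G → p ^ k ∣ Nat.card X

theorem exists_struct {G : Type*} [Group G] [Finite G]
    (h2 : ∃ p : ℕ, p.Prime ∧ p ≠ 2 ∧ p ∣ Nat.card G ∧ ¬ ∃ x : G, orderOf x = 2 * p)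
    (H : Subgroup G) (hH : H.IsSubnormal) (N : Subgroup ↥H) [N.Normal] (hs : IsSimpleGroup (↥H ⧸ N))
    (hna : ¬ IsMulCommutative (↥H ⧸ N)) (hA7 : ¬ Nonempty ((↥H ⧸ N) ≃* alternatingGroup (Fin 7)))
    (hL2 : ¬ ∃ (F : Type) (_ : Field F) (_ : Fintype F), Odd (Fintype.card F) ∧
      Nonempty ((↥H ⧸ N) ≃* Matrix.ProjectiveSpecialLinearGroup (Fin 2) F)) : Struct G (↥H ⧸ N) := by
  have hns : ¬ Group.IsSolvable G := by
    intro h
    exact not_solvable_of_simple hs hna inferInstance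
  obtain ⟨K, hKn, hKs, hKm⟩ := exists_radical G
  obtain ⟨S, hSn, hSs, hSa, hSc, -, hSyl⟩ := S3632.result hns h2 K hKs hKm
  have hsch : Schreier.Basic.Sch ↥S := Schreier.Assembly.known ↥S hSa (S0000.result)
  obtain ⟨e⟩ := comp_iso K hKs S hSs hsch hSc H hH N hs hna
  refine ⟨K, hKn, S, hSn, hKs, hSc, ⟨e.symm⟩, fun p hp hp2 hpG hpx k hk => ?_⟩
  have hfp := Fact.mk hp
  rcases hSyl with (⟨⟨f⟩⟩ | ⟨F, iF, iF', ho, ⟨f⟩⟩) | hSyl
  · exact absurd ⟨e.trans f⟩ hA7
  · exact absurd ⟨F, iF, iF', ho, ⟨e.trans f⟩⟩ hL2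
  · obtain ⟨P⟩ : Nonempty (Sylow p G) := inferInstance
    obtain ⟨Q⟩ : Nonempty (Sylow p ↥S) := inferInstance
    obtain ⟨g⟩ := hSyl p hp hp2 hpG hpx P Q
    have h3 : Nat.card ↥P = Nat.card ↥Q := Nat.card_congr g.toEquiv
    have h4 : p ^ k ∣ Nat.card ↥P := P.pow_dvd_card_of_pow_dvd_card hk
    rw [h3] at h4
    have h5 : Nat.card ↥S = Nat.card (↥H ⧸ N) := Nat.card_congr e.symm.toEquiv
    rw [← h5]
    exact h4.trans (Subgroup.card_subgroup_dvd_card _)

end Cfsg.Agent.H403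
end

-- part: H403/SporElim
section
set_option linter.all false
open scoped Cfsg.Agent.FastGrp

-- part: H403/SporMain
section
/-!
# Groups isospectral to `L_n(q)`, `U_n(q)`, `n ≥ 4`: the sporadic composition factors, reduction to 26 cases (helper403)
-/

set_option autoImplicit false
set_option linter.unusedSectionVars false

namespace Cfsg.Agent.H403

open Cfsg Cfsg.Agent.OrdDiv NumTop NumSpor

universe u v w

theorem find_fac {N : ℕ} (h : (sporFac.any fun x => Nat.beq x.2.1 N) = true) {M : ℕ} (hM : M = N) :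
    ∃ x ∈ sporFac, M = x.2.1 := by
  obtain ⟨x, hx, hb⟩ := List.any_eq_true.1 h
  exact ⟨x, hx, by rw [hM]; exact (Nat.beq_eq ▸ hb : x.2.1 = N).symm⟩

theorem card_mem {S : Type u} [Group S] (h : Cfsg.IsSporadic S ∨ Cfsg.Lie.IsoTits S) :
    ∃ x ∈ sporFac, Nat.card S = x.2.1 := by
  rcases h with h | h
  · unfold Cfsg.IsSporadic at h
    rcases h with h | h | h | h | h | h | h | h | h | h | h | h | h | h | h | h | h | h | h | h | h | h | h | h | h | h <;>
      exact find_fac (by decide +kernel) h.2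
  · exact find_fac (N := 17971200) (by decide +kernel) ((table.spor S) (.tits, 17971200) (by decide) h)

/-- integer cube root -/
def icb (d : ℕ) : ℕ :=
  (List.range 64).foldl (fun s b => cond (Nat.ble ((s + 2 ^ (63 - b)) ^ 3) (d + (s + 2 ^ (63 - b)))) (s + 2 ^ (63 - b)) s) 0

theorem not_cube : (sporFac.all fun x => Nat.blt (icb (2 * x.2.1) ^ 3) (2 * x.2.1 + icb (2 * x.2.1)) &&
    Nat.blt (2 * x.2.1 + (icb (2 * x.2.1) + 1)) ((icb (2 * x.2.1) + 1) ^ 3) && !(Nat.beq x.2.1 2520)) = true := by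
  decide +kernel

theorem cube_mono {a b : ℕ} (ha : 1 ≤ a) (h : a ≤ b) : b + a ^ 3 ≤ a + b ^ 3 := by
  obtain ⟨c, rfl⟩ := Nat.exists_eq_add_of_le h
  nlinarith [Nat.zero_le c, Nat.zero_le (a * c), Nat.zero_le (a ^ 2 * c), Nat.zero_le (c ^ 2 * a), Nat.zero_le (c ^ 3),
    Nat.mul_le_mul_right c (Nat.one_le_pow 2 a ha)]

theorem card_ne {x : Grp × ℕ × List (ℕ × ℕ)} (hx : x ∈ sporFac) :
    x.2.1 ≠ 2520 ∧ ∀ c : ℕ, 1 ≤ c → 2 * x.2.1 + c ≠ c ^ 3 := by
  have h := List.all_eq_true.1 not_cube x hx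
  rw [Bool.and_eq_true, Bool.and_eq_true, Nat.blt_eq, Nat.blt_eq, Bool.not_eq_true', ← Bool.not_eq_true, Nat.beq_eq] at h
  obtain ⟨⟨h1, h2⟩, h3⟩ := h
  refine ⟨h3, fun c hc h4 => ?_⟩
  generalize icb (2 * x.2.1) = a at h1 h2
  rcases Nat.lt_or_ge a c with h5 | h5
  · have h6 := cube_mono (a := a + 1) (b := c) (by omega) h5
    omega
  · have h6 := cube_mono hc h5
    omega

theorem card_psl2 {F : Type w} [Field F] [Fintype F] (ho : Odd (Fintype.card F)) :
    2 * Nat.card (Matrix.ProjectiveSpecialLinearGroup (Fin 2) F) + Fintype.card F = Fintype.card F ^ 3 := by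
  have h := S0243.result (F := F) rfl 2 le_rfl
  have h1 : 1 < Fintype.card F := Fintype.one_lt_card
  obtain ⟨a, ha⟩ : ∃ a, Fintype.card F = a + 1 := ⟨Fintype.card F - 1, by omega⟩
  have h2 : Nat.gcd 2 (Fintype.card F - 1) = 2 := by
    apply Nat.gcd_eq_left
    obtain ⟨m, hm⟩ := ho
    exact ⟨m, by omega⟩
  rw [h2, Fin.prod_univ_two, ha] at h
  rw [ha]
  simp only [Nat.add_sub_cancel, Fin.val_zero, Fin.val_one, pow_zero, pow_one] at h
  have h3 : (a + 1) ^ 2 - 1 = a * (a + 2) := by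
    have : (a + 1) ^ 2 = a * (a + 2) + 1 := by ring
    omega
  have h4 : (a + 1) ^ 2 - (a + 1) = a * (a + 1) := by
    have : (a + 1) ^ 2 = a * (a + 1) + (a + 1) := by ring
    omega
  rw [h3, h4] at h
  have ha0 : 0 < a := by omega
  set C := Nat.card (Matrix.ProjectiveSpecialLinearGroup (Fin 2) F)
  have h5 : a * (2 * C) = a * ((a + 2) * (a * (a + 1))) := by
    rw [← mul_assoc a (a + 2), ← h]; ring
  have h6 := Nat.eq_of_mul_eq_mul_left ha0 h5
  rw [h6]; ring

section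

variable {F : Type u} [Field F] [Fintype F] {e : Bool} {n q : ℕ} {L : Type v} [Group L] [Finite L]
variable {G : Type w} [Group G] [Finite G]

theorem iso_iff (h : Set.range (orderOf : G → ℕ) = Set.range (orderOf : L → ℕ)) (m : ℕ) :
    (∃ g : G, orderOf g = m) ↔ ∃ g : L, orderOf g = m := by
  have : m ∈ Set.range (orderOf : G → ℕ) ↔ m ∈ Set.range (orderOf : L → ℕ) := by rw [h]
  exact this

theorem primePow_of_card (hF : Fintype.card F = q ^ (cond e 0 1 + 1)) : IsPrimePow q :=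
  (isPrimePow_pow_iff (Nat.succ_ne_zero _)).1 (hF ▸ Fintype.isPrimePow_card_of_field)

/-- primes of `L` divide `ordL` -/
theorem dvd_ordL (hL : IsL L e n q F) (hF : Fintype.card F = q ^ (cond e 0 1 + 1)) (hn : 4 ≤ n) {r : ℕ} (hr : r.Prime)
    (hg : ∃ g : L, orderOf g = r) : r ∣ ordL e n q := by
  have hq : 2 ≤ q := two_le_of_card hF
  unfold ordL
  by_cases hrq : r ∣ q
  · exact hrq.mul_right _
  · apply Dvd.dvd.mul_left
    obtain ⟨h1, h2⟩ := (hL.lin (E := AlgebraicClosure F) hF (by omega)).ord_le hF (by omega) hr hrq hg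
    set j := orderOf ((xv e q : ℤ) : ZMod r) with hj
    have key : ∀ k, 2 ≤ k → k ≤ n → r ∣ AA e k q → r ∣ ((List.range (n - 1)).map fun k => AA e (k + 2) q).prod := by
      intro k hk hkn hd
      refine hd.trans (List.dvd_prod (List.mem_map.2 ⟨k - 2, List.mem_range.2 (by omega), ?_⟩))
      rw [Nat.sub_add_cancel hk]
    rcases Nat.lt_or_ge j 2 with h3 | h3
    · refine key 2 le_rfl (by omega) ((dvd_AA_iff (by omega)).2 ?_)
      have h4 : j = 1 := by omega
      have h5 : ((xv e q : ℤ) : ZMod r) = 1 := orderOf_eq_one_iff.1 (hj ▸ h4)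
      rw [h5, one_pow]
    · exact key j h3 h2 ((dvd_AA_iff (by omega)).2 (pow_orderOf_eq_one _))

theorem orderOf_zmod2 (z : ZMod 2) : orderOf z ≤ 1 := by
  have h0 : ∀ z : ZMod 2, z = 0 ∨ z = 1 := by decide
  rcases h0 z with rfl | rfl
  · rw [orderOf_eq_zero_iff'.2]
    · omega
    · intro m hm h
      rw [zero_pow hm.ne'] at h
      exact absurd h (by decide)
  · rw [orderOf_one]

theorem ne_two_of_order {r i : ℕ} {x : ℤ} (hi : orderOf ((x : ℤ) : ZMod r) = i) (h3 : 3 ≤ i) : r ≠ 2 := by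
  rintro rfl
  have := orderOf_zmod2 ((x : ℤ) : ZMod 2)
  omega

theorem not_two_G (hL : IsL L e n q F) (hF : Fintype.card F = q ^ (cond e 0 1 + 1)) (hn : 4 ≤ n)
    (h : Set.range (orderOf : G → ℕ) = Set.range (orderOf : L → ℕ)) {i : ℕ} (hi : i ∈ na e n q) {r : ℕ} (hr : r.Prime)
    (hro : orderOf ((xv e q : ℤ) : ZMod r) = i) : ¬ ∃ g : G, orderOf g = 2 * r := by
  rw [iso_iff h]
  exact (hL.lin (E := AlgebraicClosure F) hF (by omega)).not_two hF hn hi hr hro

theorem pow_tor (hL : IsL L e n q F) (hF : Fintype.card F = q ^ (cond e 0 1 + 1)) (hn : 3 ≤ n)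
    (h : Set.range (orderOf : G → ℕ) = Set.range (orderOf : L → ℕ)) {i r k : ℕ} (hi : 2 ≤ i) (hin : i ≤ n)
    (hr : r.Prime) (hro : orderOf ((xv e q : ℤ) : ZMod r) = i) (hk : r ^ k ∣ AA e i q) :
    ∃ g : G, orderOf g = r ^ k := by
  have hq : 2 ≤ q := two_le_of_card hF
  rw [iso_iff h]
  refine hL.exists_tor_le hF hn (by omega) hin (pow_pos hr.pos _) (Nat.Coprime.pow_left _ ?_) hk
  exact (Nat.Prime.coprime_iff_not_dvd hr).2 (not_dvd_AA_one (by omega) hro hi)

/-- **Reduction to 26 cases.** -/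
theorem spor_reduce (hL : IsL L e n q F) (hF : Fintype.card F = q ^ (cond e 0 1 + 1)) (hn : 4 ≤ n)
    (hne : ¬ (e = false ∧ n = 5 ∧ q = 2))
    (h : Set.range (orderOf : G → ℕ) = Set.range (orderOf : L → ℕ))
    (H : Subgroup G) (hH : H.IsSubnormal) (N : Subgroup ↥H) [N.Normal] (hs : IsSimpleGroup (↥H ⧸ N))
    (hna : ¬ IsMulCommutative (↥H ⧸ N)) (hsp : Cfsg.IsSporadic (↥H ⧸ N) ∨ Cfsg.Lie.IsoTits (↥H ⧸ N)) :
    ∃ x ∈ sporFac, Nat.card (↥H ⧸ N) = x.2.1 ∧ Real x.1 (↥H ⧸ N) ∧ (x.1, n, q, e) ∈ SV ∧ Struct G (↥H ⧸ N) := by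
  have hq : 2 ≤ q := two_le_of_card hF
  obtain ⟨x, hx, hc⟩ := card_mem hsp
  obtain ⟨hc1, hc2⟩ := card_ne hx
  obtain ⟨i₀, hi₀, hex⟩ := exists_na (e := e) (q := q) hn
  have hi₀' := mem_na hi₀
  obtain ⟨r₀, hr₀, -, hro₀⟩ := exists_prime (e := e) hq (i := i₀) (by omega) hex
  have hst : Struct G (↥H ⧸ N) := by
    refine exists_struct ⟨r₀, hr₀, ne_two_of_order hro₀ (by omega), ?_, not_two_G hL hF hn h hi₀ hr₀ hro₀⟩
      H hH N hs hna ?_ ?_
    · obtain ⟨g, hg⟩ := pow_tor (k := 1) hL hF (by omega) h (by omega) (by omega) hr₀ hro₀ (by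
        rw [pow_one, dvd_AA_iff (by omega), ← hro₀]
        exact pow_orderOf_eq_one _)
      rw [pow_one] at hg
      rw [← hg]
      exact orderOf_dvd_natCard g
    · rintro ⟨f⟩
      apply hc1
      rw [← hc, Nat.card_congr f.toEquiv, nat_card_alternatingGroup]
      simp [Nat.factorial]
    · rintro ⟨E, iE, iE', ho, ⟨f⟩⟩
      apply hc2 (Fintype.card E) Fintype.card_pos
      rw [← hc, Nat.card_congr f.toEquiv]
      exact card_psl2 ho
  refine ⟨x, hx, hc, ?_, ?_, hst⟩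
  · refine real_of_card table (S0000.result) ?_ hx hc
    intro hcomm
    exact hna ⟨⟨hcomm⟩⟩
  · refine num hx hn (primePow_of_card hF) hne ?_ ?_
    · intro i hi r k hr hro hk
      have hi' := mem_na hi
      have hi3 : 3 ≤ i := by omega
      obtain ⟨K, hK, S, hS, -, -, -, hdv⟩ := hst
      rw [← hc]
      rcases Nat.eq_zero_or_pos k with rfl | hk0
      · simp
      obtain ⟨g, hg⟩ := pow_tor hL hF (by omega) h (by omega) (by omega) hr hro hk
      have hkG : r ^ k ∣ Nat.card G := by rw [← hg]; exact orderOf_dvd_natCard g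
      exact hdv r hr (ne_two_of_order hro hi3) ((dvd_pow_self r hk0.ne').trans hkG)
        (not_two_G hL hF hn h hi hr hro) k hkG
    · intro r hr hrx
      rw [← hc] at hrx
      have := Fact.mk hr
      have h1 : r ∣ Nat.card G := by
        refine hrx.trans ((Subgroup.card_quotient_dvd_card N).trans (Subgroup.card_subgroup_dvd_card H))
      obtain ⟨g, hg⟩ := exists_prime_orderOf_dvd_card' r h1
      exact dvd_ordL hL hF hn hr ((iso_iff h r).1 ⟨g, hg⟩)

end

end Cfsg.Agent.H403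
end

-- part: H403/SporElim
section
/-!
# Tools for the elimination of the 26 cases (helper403)
-/

set_option autoImplicit false
set_option linter.unusedSectionVars false

namespace Cfsg.Agent.H403

open Cfsg NumTop NumSpor Cfsg.Agent.H94.PG.Sp Subgroup

universe u v w

/-- automorphisms of odd order are inner -/
def OddInn (X : Type*) [Group X] : Prop := ∀ φ : MulAut X, Odd (orderOf φ) → ∃ k : X, φ = MulAut.conj k

theorem OddInn.congr {X Y : Type*} [Group X] [Group Y] (e : X ≃* Y) (h : OddInn X) : OddInn Y := by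
  intro φ hφ
  obtain ⟨k, hk⟩ := h ((MulAut.congr e).symm φ) (by rw [MulEquiv.orderOf_eq]; exact hφ)
  refine ⟨e k, ?_⟩
  have h1 : φ = MulAut.congr e (MulAut.conj k) := by rw [← hk, MulEquiv.apply_symm_apply]
  rw [h1]
  ext y
  simp [MulAut.congr]

section

variable {G : Type w} [Group G] [Finite G] {X : Type v} [Group X]

theorem exists_of_X (hst : Struct G X) {m : ℕ} (hm : m ≠ 0) (h : ∃ x : X, orderOf x = m) : ∃ g : G, orderOf g = m := by
  obtain ⟨K, hK, S, hS, -, -, ⟨e⟩, -⟩ := hst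
  obtain ⟨x, hx⟩ := h
  obtain ⟨g, hg⟩ := QuotientGroup.mk'_surjective K ((e.symm x : ↥S) : G ⧸ K)
  have h1 : orderOf ((e.symm x : ↥S) : G ⧸ K) = m := by rw [Subgroup.orderOf_coe, MulEquiv.orderOf_eq, hx]
  have h2 : m ∣ orderOf g := by
    rw [← h1, ← hg]
    exact orderOf_map_dvd _ _
  refine ⟨g ^ (orderOf g / m), ?_⟩
  obtain ⟨c, hc⟩ := h2
  have hpos := orderOf_pos g
  have hc0 : c ≠ 0 := by
    rintro rfl
    rw [hc, mul_zero] at hpos
    exact lt_irrefl 0 hpos
  rw [hc, Nat.mul_div_cancel_left _ (Nat.pos_of_ne_zero hm), orderOf_pow' _ hc0, hc,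
    Nat.gcd_eq_right (Dvd.intro_left m rfl), Nat.mul_div_cancel _ (Nat.pos_of_ne_zero hc0)]

/-- `X` has an element of order `2 r` -/
theorem exists_two_mul (hst : Struct G X) {r : ℕ} (hr2 : r ≠ 2) (h : Nr X r) : ∃ g : G, orderOf g = 2 * r := by
  rcases h with h | ⟨hr, -, -, x, y, hx, hy, hc⟩
  · exact absurd h hr2
  · refine exists_of_X hst (mul_ne_zero (by norm_num) hr.ne_zero) ⟨y * x, ?_⟩
    rw [hc.symm.orderOf_mul_eq_mul_orderOf_of_coprime, hx, hy]
    rw [hx, hy]
    exact (Nat.coprime_primes Nat.prime_two hr).2 hr2.symm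

variable (K : Subgroup G) [K.Normal] (S : Subgroup (G ⧸ K)) [S.Normal]

theorem mem_of_odd (hC : centralizer (S : Set (G ⧸ K)) = ⊥) (hO : OddInn ↥S) {g : G ⧸ K} (hg : Odd (orderOf g)) :
    g ∈ S := by
  let c : G ⧸ K →* MulAut ↥S := MulAut.conjNormal
  have h1 : Odd (orderOf (c g)) := by
    obtain ⟨m, hm⟩ := orderOf_map_dvd c g
    rw [hm] at hg
    exact (Nat.odd_mul.1 hg).1
  obtain ⟨s, hs⟩ := hO _ h1
  have h2 : (s : G ⧸ K)⁻¹ * g ∈ centralizer (S : Set (G ⧸ K)) := by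
    rw [mem_centralizer_iff]
    intro y hy
    have h3 : ((c g ⟨y, hy⟩ : ↥S) : G ⧸ K) = ((MulAut.conj s ⟨y, hy⟩ : ↥S) : G ⧸ K) := by rw [hs]
    have h4 : ((c g ⟨y, hy⟩ : ↥S) : G ⧸ K) = g * y * g⁻¹ := MulAut.conjNormal_apply g ⟨y, hy⟩
    rw [h4, MulAut.conj_apply, Subgroup.coe_mul, Subgroup.coe_mul, Subgroup.coe_inv] at h3
    calc y * ((s : G ⧸ K)⁻¹ * g) = (s : G ⧸ K)⁻¹ * ((s : G ⧸ K) * y * (s : G ⧸ K)⁻¹) * g := by group
      _ = (s : G ⧸ K)⁻¹ * (g * y * g⁻¹) * g := by rw [← h3]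
      _ = _ := by group
  rw [hC, mem_bot, inv_mul_eq_one] at h2
  rw [← h2]
  exact s.2

theorem card_dvd_aux : Nat.card ↥K * Nat.card ↥S ∣ Nat.card G := by
  have h1 : Nat.card G = Nat.card ↥K * Nat.card (G ⧸ K) := by
    rw [mul_comm]
    exact Subgroup.card_eq_card_quotient_mul_card_subgroup K
  rw [h1]
  exact Nat.mul_dvd_mul_left _ (Subgroup.card_subgroup_dvd_card S)

/-- a prime whose full part of `|G|` divides `|S|` does not divide `|K|` -/
theorem not_dvd_K {r : ℕ} (hr : r.Prime) (h : ∀ k, r ^ k ∣ Nat.card G → r ^ k ∣ Nat.card ↥S) : ¬ r ∣ Nat.card ↥K := by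
  intro hK
  have hG : Nat.card G ≠ 0 := Nat.card_pos.ne'
  have h1 := h _ (Nat.ordProj_dvd (Nat.card G) r)
  have h2 : r ^ ((Nat.card G).factorization r + 1) ∣ Nat.card G := by
    rw [pow_succ']
    exact (Nat.mul_dvd_mul hK h1).trans (card_dvd_aux K S)
  have h3 := (hr.pow_dvd_iff_le_factorization hG).1 h2
  omega

/-- an odd prime of `G` not dividing `|S|` divides `|K|` -/
theorem dvd_K (hC : centralizer (S : Set (G ⧸ K)) = ⊥) (hO : OddInn ↥S) {r : ℕ} (hr : r.Prime) (hr2 : r ≠ 2)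
    (hG : r ∣ Nat.card G) (hS : ¬ r ∣ Nat.card ↥S) : r ∣ Nat.card ↥K := by
  have := Fact.mk hr
  have h1 : Nat.card G = Nat.card ↥K * Nat.card (G ⧸ K) := by
    rw [mul_comm]
    exact Subgroup.card_eq_card_quotient_mul_card_subgroup K
  rw [h1] at hG
  rcases hr.dvd_mul.1 hG with h | h
  · exact h
  · exfalso
    obtain ⟨g, hg⟩ := exists_prime_orderOf_dvd_card' r h
    have h2 : g ∈ S := mem_of_odd K S hC hO (by rw [hg]; exact hr.odd_of_ne_two hr2)
    apply hS
    have h3 := orderOf_dvd_natCard (⟨g, h2⟩ : S)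
    rwa [Subgroup.orderOf_mk, hg] at h3

/-- elements of odd order prime to `|K|` -/
theorem exists_S (hC : centralizer (S : Set (G ⧸ K)) = ⊥) (hO : OddInn ↥S) {m : ℕ} (hm : Odd m)
    (hcop : Nat.Coprime m (Nat.card ↥K)) (h : ∃ g : G, orderOf g = m) : ∃ s : ↥S, orderOf s = m := by
  obtain ⟨g, hg⟩ := h
  have h1 : orderOf (QuotientGroup.mk' K g) = m := by
    apply Nat.dvd_antisymm
    · rw [← hg]; exact orderOf_map_dvd _ _
    · set j := orderOf (QuotientGroup.mk' K g) with hj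
      have h2 : (QuotientGroup.mk' K g) ^ j = 1 := pow_orderOf_eq_one _
      rw [← map_pow, QuotientGroup.mk'_apply, QuotientGroup.eq_one_iff] at h2
      have h3 : orderOf (g ^ j) ∣ Nat.card ↥K := by
        have := orderOf_dvd_natCard (⟨g ^ j, h2⟩ : K)
        rwa [Subgroup.orderOf_mk] at this
      have h4 : orderOf (g ^ j) ∣ m := by rw [← hg]; exact orderOf_pow_dvd j
      have h5 : orderOf (g ^ j) = 1 := Nat.eq_one_of_dvd_coprimes hcop h4 h3
      rw [← hg]
      exact orderOf_dvd_of_pow_eq_one (orderOf_eq_one_iff.1 h5)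
  have h2 : QuotientGroup.mk' K g ∈ S := mem_of_odd K S hC hO (by rw [h1]; exact hm)
  exact ⟨⟨_, h2⟩, by rw [Subgroup.orderOf_mk, h1]⟩

end

/-! ### the order of `x` modulo `r` by computation -/

def ordB (e : Bool) (q r i : ℕ) : Bool :=
  Nat.beq (AA e i q % r) 0 && (List.range i).all fun d => Nat.beq d 0 || !(Nat.beq (AA e d q % r) 0)

theorem ord_of {e : Bool} {q r i : ℕ} (hq : 2 ≤ q) (hi : 1 ≤ i) (h : ordB e q r i = true) :
    orderOf ((xv e q : ℤ) : ZMod r) = i := by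
  unfold ordB at h
  rw [Bool.and_eq_true, Nat.beq_eq] at h
  refine orderOf_eq_of hi ((dvd_AA_iff (by omega)).1 (Nat.dvd_of_mod_eq_zero h.1)) fun d hd hd1 => ?_
  by_contra hlt
  have hd0 : 0 < d := Nat.pos_of_dvd_of_pos hd (by omega)
  have h2 := List.all_eq_true.1 h.2 d (List.mem_range.2 (by omega))
  rw [Bool.or_eq_true, Nat.beq_eq, Bool.not_eq_true', ← Bool.not_eq_true, Nat.beq_eq] at h2
  rcases h2 with h2 | h2
  · omega
  · exact h2 (Nat.mod_eq_zero_of_dvd ((dvd_AA_iff (by omega)).2 hd1))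

section

variable {F : Type u} [Field F] [Fintype F] {e : Bool} {n q : ℕ} {L : Type v} [Group L] [Finite L]
variable {G : Type w} [Group G] [Finite G] {X : Type w} [Group X]

theorem exists_prime_G (hL : IsL L e n q F) (hF : Fintype.card F = q ^ (cond e 0 1 + 1)) (hn : 3 ≤ n)
    (h : Set.range (orderOf : G → ℕ) = Set.range (orderOf : L → ℕ)) {i r : ℕ} (hi : 2 ≤ i) (hin : i ≤ n)
    (hr : r.Prime) (hro : ordB e q r i = true) : ∃ g : G, orderOf g = r := by
  have hq : 2 ≤ q := two_le_of_card hF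
  have h1 := ord_of hq (by omega) hro
  obtain ⟨g, hg⟩ := pow_tor (k := 1) hL hF hn h hi hin hr h1 (by
    rw [pow_one, dvd_AA_iff (by omega), ← h1]
    exact pow_orderOf_eq_one _)
  exact ⟨g, by rw [hg, pow_one]⟩

theorem dvd_G (hL : IsL L e n q F) (hF : Fintype.card F = q ^ (cond e 0 1 + 1)) (hn : 3 ≤ n)
    (h : Set.range (orderOf : G → ℕ) = Set.range (orderOf : L → ℕ)) {i r : ℕ} (hi : 2 ≤ i) (hin : i ≤ n)
    (hr : r.Prime) (hro : ordB e q r i = true) : r ∣ Nat.card G := by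
  obtain ⟨g, hg⟩ := exists_prime_G hL hF hn h hi hin hr hro
  rw [← hg]
  exact orderOf_dvd_natCard g

/-- **case A**: an adjacency in `X` -/
theorem elimA (hL : IsL L e n q F) (hF : Fintype.card F = q ^ (cond e 0 1 + 1)) (hn : 4 ≤ n)
    (h : Set.range (orderOf : G → ℕ) = Set.range (orderOf : L → ℕ)) (hst : Struct G X) {i r : ℕ}
    (hi : i ∈ na e n q) (hr : r.Prime) (hro : ordB e q r i = true) (hN : Nr X r) : False := by
  have hq : 2 ≤ q := two_le_of_card hF
  have hi' := mem_na hi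
  have h1 := ord_of hq (by omega) hro
  exact not_two_G hL hF hn h hi hr h1 (exists_two_mul hst (ne_two_of_order h1 (by omega)) hN)

/-- nonadjacent primes -/
theorem not_adj_G (hL : IsL L e n q F) (hF : Fintype.card F = q ^ (cond e 0 1 + 1)) (hn : 3 ≤ n)
    (h : Set.range (orderOf : G → ℕ) = Set.range (orderOf : L → ℕ)) {r s i j : ℕ} (hr : r.Prime) (hs : s.Prime)
    (hri : ordB e q r i = true) (hsj : ordB e q s j = true) (hi : 2 ≤ i) (hj : 2 ≤ j) (hij : n < i + j)
    (hlcm : n < Nat.lcm i j) : ¬ ∃ g : G, orderOf g = r * s := by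
  have hq : 2 ≤ q := two_le_of_card hF
  rw [iso_iff h]
  exact (hL.lin (E := AlgebraicClosure F) hF hn).not_adj hF (by omega) hr hs (ord_of hq (by omega) hri)
    (ord_of hq (by omega) hsj) hi hj hij hlcm

/-- the arithmetic of case C -/
def cocB (e : Bool) (n q : ℕ) (r i s j t k N : ℕ) : Bool :=
  ordB e q r i && (ordB e q s j && (ordB e q t k && (!(Nat.beq (N % r) 0) && (!(Nat.beq (N % s) 0) &&
    (Nat.blt n (i + j) && (Nat.blt n (i + k) && (Nat.blt n (j + k) && (Nat.blt n (Nat.lcm i j) &&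
    (Nat.blt n (Nat.lcm i k) && (Nat.blt n (Nat.lcm j k) && (Nat.ble 2 i && (Nat.ble 2 j && (Nat.ble 2 k &&
    (Nat.ble i n && (Nat.ble j n && (Nat.ble k n && (!(Nat.beq r s) && (!(Nat.beq r t) && (!(Nat.beq s t) &&
    (!(Nat.beq r 2) && !(Nat.beq s 2)))))))))))))))))))))

/-- **case C**: a coclique of three primes, two of them not dividing `|X|` -/
theorem elimC (hL : IsL L e n q F) (hF : Fintype.card F = q ^ (cond e 0 1 + 1)) (hn : 3 ≤ n)
    (h : Set.range (orderOf : G → ℕ) = Set.range (orderOf : L → ℕ)) (hst : Struct G X) (hO : OddInn X)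
    {r i s j t k : ℕ} (hr : r.Prime) (hs : s.Prime) (ht : t.Prime) (hb : cocB e n q r i s j t k (Nat.card X) = true) :
    False := by
  unfold cocB at hb
  simp only [Bool.and_eq_true, Bool.not_eq_true', ← Bool.not_eq_true, Nat.beq_eq, Nat.blt_eq] at hb
  obtain ⟨hri, hsj, htk, hNr, hNs, h1, h2, h3, h4, h5, h6, h7, h8, h9, h10, h11, h12, h13, h14, h15, h16, h17⟩ := hb
  replace h7 := Nat.ble_eq ▸ h7
  replace h8 := Nat.ble_eq ▸ h8
  replace h9 := Nat.ble_eq ▸ h9
  replace h10 := Nat.ble_eq ▸ h10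
  replace h11 := Nat.ble_eq ▸ h11
  replace h12 := Nat.ble_eq ▸ h12
  have hrG := dvd_G hL hF hn h h7 h10 hr hri
  have hsG := dvd_G hL hF hn h h8 h11 hs hsj
  have htG := dvd_G hL hF hn h h9 h12 ht htk
  have hrs := not_adj_G hL hF hn h hr hs hri hsj h7 h8 h1 h4
  have hrt := not_adj_G hL hF hn h hr ht hri htk h7 h9 h2 h5
  have hst' := not_adj_G hL hF hn h hs ht hsj htk h8 h9 h3 h6
  obtain ⟨K, hK, S, hS, hKs, hC, ⟨f⟩, -⟩ := hst
  have hOS : OddInn ↥S := hO.congr f.symm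
  have hcard : Nat.card ↥S = Nat.card X := Nat.card_congr f.toEquiv
  have hrK := dvd_K K S hC hOS hr h16 hrG (by rw [hcard]; exact fun hd => hNr (Nat.mod_eq_zero_of_dvd hd))
  have hsK := dvd_K K S hC hOS hs h17 hsG (by rw [hcard]; exact fun hd => hNs (Nat.mod_eq_zero_of_dvd hd))
  have key := (S3633.result ({r, s, t} : Finset ℕ) ?_ ⟨?_, ?_⟩ K hKs).1 r (by simp) s (by simp) hrK hsK
  · exact h13 key
  · rw [Finset.card_insert_of_notMem, Finset.card_insert_of_notMem, Finset.card_singleton]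
    · simp only [Finset.mem_singleton]; exact h15
    · simp only [Finset.mem_insert, Finset.mem_singleton, not_or]; exact ⟨h13, h14⟩
  · intro a ha
    simp only [Finset.mem_insert, Finset.mem_singleton] at ha
    rcases ha with rfl | rfl | rfl
    · exact ⟨hr, hrG⟩
    · exact ⟨hs, hsG⟩
    · exact ⟨ht, htG⟩
  · intro a ha b hb hab
    simp only [Finset.mem_insert, Finset.mem_singleton] at ha hb
    rcases ha with rfl | rfl | rfl <;> rcases hb with rfl | rfl | rfl <;>
      first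
        | exact absurd rfl hab
        | exact hrs
        | exact hrt
        | exact hst'
        | (rw [mul_comm]; exact hrs)
        | (rw [mul_comm]; exact hrt)
        | (rw [mul_comm]; exact hst')

end

end Cfsg.Agent.H403
end
end
end
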