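import Mathlib
import Cfsg.Agent.HN.AutHS
import Cfsg.Agent.FastGrp
import Cfsg.Agent.Prune
set_option linter.all false

section
prune_inst 0x7f00000000000000000000000000000000000000000000000000000000000000000000000000000000000000000000000000000000000000000000000000000000000000000000000000000000000000003fffffffffffffffffffffffffffbeffbdffffffff

-- part: H403/FrobDat
section
set_option linter.all false
open scoped Cfsg.Agent.FastGrp

/-!
# Groups with a subgroup `2 ^ 3 : 7` and noncyclic Sylow 3-subgroups of order 9 (helper403)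
-/

set_option autoImplicit false

namespace Cfsg.Agent.H403

open Subgroup

/-- explicit elements generating `2 ^ 3 : 7` and `3 ^ 2` -/
structure FDat (X : Type*) [Group X] : Prop where
  st : ∃ s t0 t1 t2 : X, s ^ 7 = 1 ∧ s ≠ 1 ∧ s * t0 = t1 * s ∧ s * t1 = t2 * s ∧ s * t2 = t0 * t1 * s ∧
    t0 * t1 = t1 * t0 ∧ t0 * t2 = t2 * t0 ∧ t0 * t0 = 1 ∧ t0 ≠ 1
  ab : ∃ a b : X, a ^ 3 = 1 ∧ b ^ 3 = 1 ∧ a * b = b * a ∧ a ≠ 1 ∧ b ≠ 1 ∧ a ≠ b ∧ a * a ≠ b

theorem FDat.congr {X Y : Type*} [Group X] [Group Y] (e : X ≃* Y) (h : FDat X) : FDat Y := by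
  obtain ⟨⟨s, t0, t1, t2, h1, h2, h3, h4, h5, h6, h7, h8, h9⟩, a, b, k1, k2, k3, k4, k5, k6, k7⟩ := h
  refine ⟨⟨e s, e t0, e t1, e t2, ?_, ?_, ?_, ?_, ?_, ?_, ?_, ?_, ?_⟩, e a, e b, ?_, ?_, ?_, ?_, ?_, ?_, ?_⟩
  · rw [← map_pow, h1, map_one]
  · exact fun h => h2 ((map_eq_one_iff e e.injective).1 h)
  · rw [← map_mul, ← map_mul, h3]
  · rw [← map_mul, ← map_mul, h4]
  · rw [← map_mul, ← map_mul, ← map_mul, h5]
  · rw [← map_mul, ← map_mul, h6]
  · rw [← map_mul, ← map_mul, h7]
  · rw [← map_mul, h8, map_one]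
  · exact fun h => h9 ((map_eq_one_iff e e.injective).1 h)
  · rw [← map_pow, k1, map_one]
  · rw [← map_pow, k2, map_one]
  · rw [← map_mul, ← map_mul, k3]
  · exact fun h => k4 ((map_eq_one_iff e e.injective).1 h)
  · exact fun h => k5 ((map_eq_one_iff e e.injective).1 h)
  · exact fun h => k6 (e.injective h)
  · intro h
    rw [← map_mul] at h
    exact k7 (e.injective h)

theorem FDat.frob {X : Type*} [Group X] (h : FDat X) :
    ∃ (A : Subgroup X) (x : X), IsPGroup 2 ↥A ∧ A ≠ ⊥ ∧ orderOf x = 7 ∧ x ∈ normalizer (A : Set X) := by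
  obtain ⟨⟨s, t0, t1, t2, h1, h2, h3, h4, h5, h6, h7, h8, h9⟩, -⟩ := h
  have : Fact (Nat.Prime 7) := ⟨by norm_num⟩
  have e1 : t1 = s * t0 * s⁻¹ := by rw [h3]; group
  have e2 : t2 = s * t1 * s⁻¹ := by rw [h4]; group
  have e3 : t0 * t1 = s * t2 * s⁻¹ := by rw [h5]; group
  have h12 : t1 * t2 = t2 * t1 := by
    calc t1 * t2 = (s * t0 * s⁻¹) * (s * t1 * s⁻¹) := by rw [← e1, ← e2]
      _ = s * (t0 * t1) * s⁻¹ := by group
      _ = s * (t1 * t0) * s⁻¹ := by rw [h6]
      _ = (s * t1 * s⁻¹) * (s * t0 * s⁻¹) := by group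
      _ = t2 * t1 := by rw [← e1, ← e2]
  have q1 : t1 * t1 = 1 := by
    calc t1 * t1 = (s * t0 * s⁻¹) * (s * t0 * s⁻¹) := by rw [← e1]
      _ = s * (t0 * t0) * s⁻¹ := by group
      _ = 1 := by rw [h8]; group
  have q2 : t2 * t2 = 1 := by
    calc t2 * t2 = (s * t1 * s⁻¹) * (s * t1 * s⁻¹) := by rw [← e2]
      _ = s * (t1 * t1) * s⁻¹ := by group
      _ = 1 := by rw [q1]; group
  set T : Set X := {t0, t1, t2} with hT
  set A : Subgroup X := closure T with hA
  have m0 : t0 ∈ A := subset_closure (by simp [hT])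
  have m1 : t1 ∈ A := subset_closure (by simp [hT])
  have m2 : t2 ∈ A := subset_closure (by simp [hT])
  have hTT : ∀ x ∈ T, ∀ y ∈ T, x * y = y * x := by
    intro x hx y hy
    simp only [hT, Set.mem_insert_iff, Set.mem_singleton_iff] at hx hy
    rcases hx with rfl | rfl | rfl <;> rcases hy with rfl | rfl | rfl <;>
      first
        | rfl
        | exact h6
        | exact h7
        | exact h12
        | exact h6.symm
        | exact h7.symm
        | exact h12.symm
  have hc1 : ∀ x ∈ A, ∀ y ∈ T, x * y = y * x := by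
    intro x hx y hy
    refine Subgroup.closure_induction (p := fun x _ => x * y = y * x) (fun x hx => hTT x hx y hy) ?_ ?_ ?_ hx
    · rw [one_mul, mul_one]
    · intro u v _ _ hu hv
      rw [mul_assoc, hv, ← mul_assoc, hu, mul_assoc]
    · intro u _ hu
      have : Commute u y := hu
      exact this.inv_left.eq
  have hc2 : ∀ x ∈ A, ∀ y ∈ A, x * y = y * x := by
    intro x hx y hy
    refine Subgroup.closure_induction (p := fun y _ => x * y = y * x) (fun y hy => hc1 x hx y hy) ?_ ?_ ?_ hy
    · rw [one_mul, mul_one]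
    · intro u v _ _ hu hv
      rw [← mul_assoc, hu, mul_assoc, hv, mul_assoc]
    · intro u _ hu
      have : Commute x u := hu
      exact this.inv_right.eq
  have hsq : ∀ x ∈ A, x * x = 1 := by
    intro x hx
    refine Subgroup.closure_induction (p := fun x _ => x * x = 1) ?_ ?_ ?_ ?_ hx
    · intro y hy
      simp only [hT, Set.mem_insert_iff, Set.mem_singleton_iff] at hy
      rcases hy with rfl | rfl | rfl
      · exact h8
      · exact q1
      · exact q2
    · rw [one_mul]
    · intro u v hu' hv' hu hv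
      calc u * v * (u * v) = u * (v * u) * v := by group
        _ = u * (u * v) * v := by rw [hc2 v hv' u hu']
        _ = (u * u) * (v * v) := by group
        _ = 1 := by rw [hu, hv, one_mul]
    · intro u _ hu
      rw [← mul_inv_rev, hu, inv_one]
  refine ⟨A, s, ?_, ?_, ?_, ?_⟩
  · intro x
    refine ⟨1, Subtype.ext ?_⟩
    rw [pow_one, Subgroup.coe_pow, pow_two, Subgroup.coe_one]
    exact hsq x x.2
  · intro h
    rw [h, mem_bot] at m0
    exact h9 m0
  · exact orderOf_eq_prime h1 h2
  · have f1 : ∀ x ∈ A, s * x * s⁻¹ ∈ A := by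
      intro x hx
      refine Subgroup.closure_induction (p := fun x _ => s * x * s⁻¹ ∈ A) ?_ ?_ ?_ ?_ hx
      · intro y hy
        simp only [hT, Set.mem_insert_iff, Set.mem_singleton_iff] at hy
        rcases hy with rfl | rfl | rfl
        · rw [← e1]; exact m1
        · rw [← e2]; exact m2
        · rw [← e3]; exact A.mul_mem m0 m1
      · rw [mul_one, mul_inv_cancel]; exact A.one_mem
      · intro u v _ _ hu hv
        have : s * (u * v) * s⁻¹ = (s * u * s⁻¹) * (s * v * s⁻¹) := by group
        rw [this]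
        exact A.mul_mem hu hv
      · intro u _ hu
        have : s * u⁻¹ * s⁻¹ = (s * u * s⁻¹)⁻¹ := by group
        rw [this]
        exact A.inv_mem hu
    have f2 : ∀ k : ℕ, ∀ x ∈ A, s ^ k * x * (s ^ k)⁻¹ ∈ A := by
      intro k
      induction k with
      | zero => intro x hx; simpa using hx
      | succ k ih =>
        intro x hx
        have : s ^ (k + 1) * x * (s ^ (k + 1))⁻¹ = s * (s ^ k * x * (s ^ k)⁻¹) * s⁻¹ := by
          rw [pow_succ']; group
        rw [this]
        exact f1 _ (ih x hx)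
    rw [mem_normalizer_iff]
    intro x
    refine ⟨f1 x, fun hx => ?_⟩
    have h3 := f2 6 _ hx
    have h4 : s ^ 6 * (s * x * s⁻¹) * (s ^ 6)⁻¹ = x := by
      have : s ^ 6 * (s * x * s⁻¹) * (s ^ 6)⁻¹ = s ^ 7 * x * (s ^ 7)⁻¹ := by group
      rw [this, h1, one_mul, inv_one, mul_one]
    rwa [h4] at h3

theorem FDat.no_nine {X : Type*} [Group X] [Finite X] (h : FDat X) (h27 : ¬ 3 ^ 3 ∣ Nat.card X) :
    ¬ ∃ g : X, orderOf g = 9 := by
  rintro ⟨g, hg⟩
  obtain ⟨-, a, b, k1, k2, k3, k4, k5, k6, k7⟩ := h
  have : Fact (Nat.Prime 3) := ⟨Nat.prime_three⟩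
  -- the Sylow subgroup of `g`
  have hgp : IsPGroup 3 ↥(zpowers g) := by
    refine IsPGroup.of_card (n := 2) ?_
    rw [Nat.card_zpowers, hg]
    norm_num
  obtain ⟨P, hP⟩ := hgp.exists_le_sylow
  have hcP : Nat.card ↥(P : Subgroup X) = 9 := by
    obtain ⟨m, hm⟩ := P.isPGroup'.exists_card_eq
    have h1 : 9 ∣ Nat.card ↥(P : Subgroup X) := by
      have := Subgroup.card_dvd_of_le hP
      rwa [Nat.card_zpowers, hg] at this
    have h2 : Nat.card ↥(P : Subgroup X) ∣ Nat.card X := Subgroup.card_subgroup_dvd_card _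
    rw [hm] at h1 h2 ⊢
    have h3 : m < 3 := by
      by_contra hlt
      exact h27 ((pow_dvd_pow 3 (by omega)).trans h2)
    interval_cases m
    · norm_num at h1
    · norm_num at h1
    · norm_num
  have hPg : (P : Subgroup X) = zpowers g := by
    refine (Subgroup.eq_of_le_of_card_ge hP ?_).symm
    rw [hcP, Nat.card_zpowers, hg]
  have hPc : IsCyclic ↥(P : Subgroup X) := by rw [hPg]; infer_instance
  -- the group generated by `a`, `b`
  have hcom : Commute a b := k3
  have hab : IsPGroup 3 ↥(closure {a, b}) := by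
    have hall : ∀ x ∈ closure ({a, b} : Set X), x ^ 3 = 1 ∧ Commute x a ∧ Commute x b := by
      intro x hx
      have hxc : ∀ x ∈ closure ({a, b} : Set X), Commute x a ∧ Commute x b := by
        intro x hx
        refine Subgroup.closure_induction (p := fun x _ => Commute x a ∧ Commute x b) ?_ ?_ ?_ ?_ hx
        · intro y hy
          rcases hy with rfl | hy
          · exact ⟨Commute.refl _, hcom⟩
          · rw [Set.mem_singleton_iff] at hy
            subst hy
            exact ⟨hcom.symm, Commute.refl _⟩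
        · exact ⟨Commute.one_left _, Commute.one_left _⟩
        · intro u v _ _ hu hv
          exact ⟨hu.1.mul_left hv.1, hu.2.mul_left hv.2⟩
        · intro u _ hu
          exact ⟨hu.1.inv_left, hu.2.inv_left⟩
      have hcc : ∀ x ∈ closure ({a, b} : Set X), ∀ y ∈ closure ({a, b} : Set X), Commute x y := by
        intro x hx y hy
        refine Subgroup.closure_induction (p := fun y _ => Commute x y) ?_ ?_ ?_ ?_ hy
        · intro z hz
          rcases hz with rfl | hz
          · exact (hxc x hx).1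
          · rw [Set.mem_singleton_iff] at hz
            subst hz
            exact (hxc x hx).2
        · exact Commute.one_right _
        · intro u v _ _ hu hv
          exact hu.mul_right hv
        · intro u _ hu
          exact hu.inv_right
      refine ⟨?_, (hxc x hx).1, (hxc x hx).2⟩
      refine Subgroup.closure_induction (p := fun x _ => x ^ 3 = 1) ?_ ?_ ?_ ?_ hx
      · intro y hy
        rcases hy with rfl | hy
        · exact k1
        · rw [Set.mem_singleton_iff] at hy
          subst hy
          exact k2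
      · rw [one_pow]
      · intro u v hu' hv' hu hv
        rw [(hcc u hu' v hv').mul_pow, hu, hv, one_mul]
      · intro u _ hu
        rw [inv_pow, hu, inv_one]
    intro x
    refine ⟨1, Subtype.ext ?_⟩
    rw [pow_one, Subgroup.coe_pow, Subgroup.coe_one]
    exact (hall x x.2).1
  obtain ⟨R, hR⟩ := hab.exists_le_sylow
  have hRc : IsCyclic ↥(R : Subgroup X) := by
    have e : ↥(R : Subgroup X) ≃* ↥(P : Subgroup X) := (R.equiv P)
    exact isCyclic_of_surjective e.symm e.symm.surjective
  have ha : a ∈ (R : Subgroup X) := hR (subset_closure (by simp))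
  have hb : b ∈ (R : Subgroup X) := hR (subset_closure (by simp))
  classical
  have : Fintype ↥(R : Subgroup X) := Fintype.ofFinite _
  have h4 := IsCyclic.card_pow_eq_one_le (α := ↥(R : Subgroup X)) (n := 3) (by norm_num)
  have h5 : ({1, ⟨a, ha⟩, ⟨a, ha⟩ * ⟨a, ha⟩, ⟨b, hb⟩} : Finset ↥(R : Subgroup X)) ⊆
      Finset.univ.filter fun x => x ^ 3 = 1 := by
    intro x hx
    simp only [Finset.mem_insert, Finset.mem_singleton] at hx
    rw [Finset.mem_filter]
    refine ⟨Finset.mem_univ _, Subtype.ext ?_⟩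
    rw [Subgroup.coe_pow, Subgroup.coe_one]
    rcases hx with rfl | rfl | rfl | rfl
    · rw [Subgroup.coe_one, one_pow]
    · exact k1
    · rw [Subgroup.coe_mul]
      change (a * a) ^ 3 = 1
      rw [(Commute.refl a).mul_pow, k1, one_mul]
    · exact k2
  have h6 : ({1, ⟨a, ha⟩, ⟨a, ha⟩ * ⟨a, ha⟩, ⟨b, hb⟩} : Finset ↥(R : Subgroup X)).card = 4 := by
    have ne1 : a * a ≠ 1 := by
      intro h
      apply k4
      have : a ^ 3 = a := by rw [pow_succ, pow_two, h, one_mul]
      rw [← this, k1]
    have ne2 : a * a ≠ a := by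
      intro h
      apply k4
      have : a * a = a * 1 := by rw [h, mul_one]
      exact mul_left_cancel this
    rw [Finset.card_insert_of_notMem, Finset.card_insert_of_notMem, Finset.card_insert_of_notMem,
      Finset.card_singleton]
    · simp only [Finset.mem_singleton]
      intro h
      exact k7 (congrArg Subtype.val h)
    · simp only [Finset.mem_insert, Finset.mem_singleton, not_or]
      exact ⟨fun h => ne2 (congrArg Subtype.val h).symm, fun h => k6 (congrArg Subtype.val h)⟩
    · simp only [Finset.mem_insert, Finset.mem_singleton, not_or]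
      exact ⟨fun h => k4 (congrArg Subtype.val h).symm, fun h => ne1 (congrArg Subtype.val h).symm,
        fun h => k5 (congrArg Subtype.val h).symm⟩
  have h7 := Finset.card_le_card h5
  omega

end Cfsg.Agent.H403
end

-- part: H403/FDatHS
section
set_option linter.all false
open scoped Cfsg.Agent.FastGrp

/-!
# `2 ^ 3 : 7` and `3 ^ 2` in `HS` (helper403)
-/

set_option autoImplicit false

namespace Cfsg.Agent.H403.HSD

open Cfsg Cfsg.Agent.SporadicA.PermTab Cfsg.Agent.HN.HS100 Equiv

def s : ℕ := 0x74180250300be1442c0540620300403e0c21342183d06e0a01f83c01c0740283509e1181a0400900100800302c0780b85201218c098120980900680b0661100c8220b8188010500020b82f0210b408c2584e0ae0a4168060920602a81505e03c2383604e07c1580704c164050250a60c80e0110401042d83b0720000a02c0541740d01b08a0e02b042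
def t0 : ℕ := 0x60200f0560921781803e0b60b4228550841802c0120581402885209c13c1303f0861282f8110480802c83c09615c080210981700e8440760bc1c838038014048180520381885d0740b82d05305601c1981a0001341284704408c2004602c1841e8370360a00a03400c07c0a8190021502404101e0c80680c0160281a86205405c1b0040c600809827
def t1 : ℕ := 0xa81040f02c0680301304b0b61681785008414c290630ac1542885802c07c1804c0b803c0c0060261181d01a07c15c3101c07e10c190280761141c8380420cc0485f06c0f41884d0b20b81686004a08c0283c04e1741580105401c1b82009c184070400361100a04902213c0201908e00c0b8080940740685e0160281a8100441201481502400812000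
def t2 : ℕ := 0x2c04c0f017044178200440b60b4070290ae0181984f0900d81d8050a80481b84c03403c118530820801905c0501082385d07e0f01d03e0a20f41c83809a1481a8070aa1141882103a0b82d01104a0602c04304e0701581009217c180460061841782601412c0a02a0c018c0a8190c4138160240941640680c01606c048010681582800403e00804000
def a : ℕ := 0x7418c308460860082d01907a1242685806e0242a82705805c1c83100a0d40d8280ae0882e84e09e0902d82005e0202082107e1282283600c1880205409601c2404c0760c8148420be0000e02b0a6158280340700742006001a0f81281102007c060030b20680581802a0582902305c03c2201e0020380a0260b8178150300780cc2385105a02809013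
def b : ℕ := 0xc40e83084e05e1782603c07a0a00e8580921102a84f0580ec2905005c0f8060370b41181a0220260d42d8120be07c0b04d07e1802280d0a218c0b8470ba050250570081041881e0861500402b0a60441484b00a0842c8480160900d80f0060701283004c0381b01a00c0c8198190701580082d0120602e04000e028100100460e40001508400815027

theorem inS : InG Q s := word_of (L := [tX, tY, tY, tW]) (mem3 inX inY inW) (by simp) (by decide +kernel)
theorem in0 : InG Q t0 := word_of (L := [tY, tY, tW, tW, tX, tY, tY, tW, tW, tX, tY, tY, tW, tW, tX, tY, tY, tW, tW, tX])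
  (mem3 inX inY inW) (by simp) (by decide +kernel)
theorem in1 : InG Q t1 := word_of (L := [s, s, s, s, s, s, t0, s]) (mem2 inS in0) (by simp) (by decide +kernel)
theorem in2 : InG Q t2 := word_of (L := [s, s, s, s, s, s, t1, s]) (mem2 inS in1) (by simp) (by decide +kernel)
theorem inA : InG Q a := word_of (L := [tY, tY, tW, tW, tY, tY]) (mem3 inX inY inW) (by simp) (by decide +kernel)
theorem inB : InG Q b := word_of (L := [tW, tW]) (mem3 inX inY inW) (by simp) (by decide +kernel)

/-- the permutation `g` is given by the word `L` (first letter first) -/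
def Rep (g : Perm (Fin 100)) (L : List ℕ) : Prop := ∀ i : Fin 100, (g i : ℕ) = ev L i

theorem ev_append (L M : List ℕ) (j : ℕ) : ev (L ++ M) j = ev M (ev L j) := by
  induction L generalizing j with
  | nil => rfl
  | cons P L ih => rw [List.cons_append, ev_cons, ev_cons, ih]

theorem Rep.mul {g h : Perm (Fin 100)} {L M : List ℕ} (hg : Rep g L) (hh : Rep h M) : Rep (g * h) (M ++ L) := by
  intro i
  rw [Perm.mul_apply, ev_append, hg, hh]

theorem Rep.one : Rep 1 [] := fun _ => rfl

theorem Rep.eq {g h : Perm (Fin 100)} {L M : List ℕ} (hg : Rep g L) (hh : Rep h M)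
    (hc : allB (fun i => Nat.beq (ev L i) (ev M i)) 100 = true) : g = h := by
  refine Equiv.ext fun i => Fin.ext ?_
  rw [hg, hh]
  exact Nat.eq_of_beq_eq_true ((allB_iff _ _).1 hc i i.2)

theorem Rep.ne {g h : Perm (Fin 100)} {L M : List ℕ} (hg : Rep g L) (hh : Rep h M)
    (hc : allB (fun i => Nat.beq (ev L i) (ev M i)) 100 = false) : g ≠ h := by
  rintro rfl
  have : allB (fun i => Nat.beq (ev L i) (ev M i)) 100 = true := by
    rw [allB_iff]
    intro i hi
    have h1 := hg ⟨i, hi⟩
    have h2 := hh ⟨i, hi⟩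
    rw [h1] at h2
    rw [show ev L i = ev M i from h2]
    exact Nat.beq_refl _
  rw [this] at hc
  exact absurd hc (by decide)

theorem exists_rep {T : ℕ} (h : InG Q T) : ∃ g : Q, Rep (g : Perm (Fin 100)) [T] := by
  obtain ⟨g, hg, hgt⟩ := h
  exact ⟨⟨g, hg⟩, fun i => hgt i⟩

theorem fdat_Q : FDat Q := by
  obtain ⟨gs, hs⟩ := exists_rep inS
  obtain ⟨g0, h0⟩ := exists_rep in0
  obtain ⟨g1, h1⟩ := exists_rep in1
  obtain ⟨g2, h2⟩ := exists_rep in2
  obtain ⟨ga, ha⟩ := exists_rep inA
  obtain ⟨gb, hb⟩ := exists_rep inB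
  refine ⟨⟨gs, g0, g1, g2, ?_, ?_, ?_, ?_, ?_, ?_, ?_, ?_, ?_⟩, ga, gb, ?_, ?_, ?_, ?_, ?_, ?_, ?_⟩
  · have e : gs ^ 7 = gs * (gs * (gs * (gs * (gs * (gs * gs))))) := by simp only [pow_succ, pow_zero, one_mul, mul_assoc]
    rw [e]
    exact Subtype.ext ((hs.mul (hs.mul (hs.mul (hs.mul (hs.mul (hs.mul hs)))))).eq Rep.one (by decide +kernel))
  · exact fun h => (hs.ne Rep.one (by decide +kernel)) (congrArg Subtype.val h)
  · exact Subtype.ext ((hs.mul h0).eq (h1.mul hs) (by decide +kernel))
  · exact Subtype.ext ((hs.mul h1).eq (h2.mul hs) (by decide +kernel))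
  · exact Subtype.ext ((hs.mul h2).eq ((h0.mul h1).mul hs) (by decide +kernel))
  · exact Subtype.ext ((h0.mul h1).eq (h1.mul h0) (by decide +kernel))
  · exact Subtype.ext ((h0.mul h2).eq (h2.mul h0) (by decide +kernel))
  · exact Subtype.ext ((h0.mul h0).eq Rep.one (by decide +kernel))
  · exact fun h => (h0.ne Rep.one (by decide +kernel)) (congrArg Subtype.val h)
  · have e : ga ^ 3 = ga * (ga * ga) := by simp only [pow_succ, pow_zero, one_mul, mul_assoc]
    rw [e]
    exact Subtype.ext ((ha.mul (ha.mul ha)).eq Rep.one (by decide +kernel))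
  · have e : gb ^ 3 = gb * (gb * gb) := by simp only [pow_succ, pow_zero, one_mul, mul_assoc]
    rw [e]
    exact Subtype.ext ((hb.mul (hb.mul hb)).eq Rep.one (by decide +kernel))
  · exact Subtype.ext ((ha.mul hb).eq (hb.mul ha) (by decide +kernel))
  · exact fun h => (ha.ne Rep.one (by decide +kernel)) (congrArg Subtype.val h)
  · exact fun h => (hb.ne Rep.one (by decide +kernel)) (congrArg Subtype.val h)
  · exact fun h => (ha.ne hb (by decide +kernel)) (congrArg Subtype.val h)
  · exact fun h => ((ha.mul ha).ne hb (by decide +kernel)) (congrArg Subtype.val h)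

theorem fdat {X : Type*} [Group X] (h : Spor.IsoHS X) : FDat X := by
  obtain ⟨e⟩ := h
  obtain ⟨⟨f⟩, -⟩ := Cfsg.Agent.HN.AutHS.nonempty_Q
  exact (fdat_Q.congr f).congr e.symm

end Cfsg.Agent.H403.HSD
end
end
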