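import Cfsg.Agent.LieClassical.OrthForms
import Cfsg.Agent.LieClassical.OrthFinite
import Cfsg.Agent.LieClassical.OrthTrans
import Cfsg.Agent.LieClassical.QuadForms
set_option linter.all false

set_option autoImplicit false
set_option linter.unusedSectionVars false

namespace Cfsg.Agent.H403.Classify

open QuadraticMap hiding proj
open Cfsg.Agent.LieClassical.OrthCore Cfsg.Agent.LieClassical.OrthTrans
open Cfsg.Agent.LieClassical.OrthForms

universe u v

/-- the binary form `z₁² + a z₁ z₂ + b z₂²` is anisotropic -/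
def Aniso {F : Type*} [Field F] (a b : F) : Prop := ∀ z₁ z₂ : F, z₁ ^ 2 + a * z₁ * z₂ + b * z₂ ^ 2 = 0 → z₁ = 0 ∧ z₂ = 0

section Split

variable {F : Type*} [Field F] {V : Type*} [AddCommGroup V] [Module F V] {Q : QuadraticForm F V}

/-- the orthogonal complement of `x, y` -/
def Comp (Q : QuadraticForm F V) (x y : V) : Submodule F V :=
  LinearMap.ker (polarBilin Q x) ⊓ LinearMap.ker (polarBilin Q y)

theorem mem_Comp {x y v : V} : v ∈ Comp Q x y ↔ polar Q x v = 0 ∧ polar Q y v = 0 := by
  simp [Comp, Submodule.mem_inf]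

/-- splitting off a hyperbolic plane -/
def splitEquiv {x y : V} (h : Hyp Q x y) : (↥(Comp Q x y) × F × F) ≃ₗ[F] V where
  toFun p := (p.1 : V) + p.2.1 • x + p.2.2 • y
  invFun v := (⟨proj Q x y v, mem_Comp.2 ⟨polar_proj_left h v, polar_proj_right h v⟩⟩, polar Q y v, polar Q x v)
  map_add' p p' := by
    simp only [Prod.fst_add, Prod.snd_add, Submodule.coe_add]
    module
  map_smul' c p := by
    simp only [Prod.smul_fst, Prod.smul_snd, Submodule.coe_smul, RingHom.id_apply]
    module
  left_inv p := by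
    obtain ⟨⟨w, hw⟩, a, b⟩ := p
    obtain ⟨hx, hy⟩ := mem_Comp.1 hw
    have e1 : polar Q y (w + a • x + b • y) = a := by
      simp only [polar_add_right, polar_smul_right, hy, h.pair', h.polar_right, smul_eq_mul]
      ring
    have e2 : polar Q x (w + a • x + b • y) = b := by
      simp only [polar_add_right, polar_smul_right, hx, h.pair, h.polar_left, smul_eq_mul]
      ring
    refine Prod.ext (Subtype.ext ?_) (Prod.ext e1 e2)
    change proj Q x y (w + a • x + b • y) = w
    rw [proj, e1, e2]
    module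
  right_inv v := by
    change proj Q x y v + polar Q y v • x + polar Q x v • y = v
    rw [proj]
    module

theorem splitEquiv_apply {x y : V} (h : Hyp Q x y) (p : ↥(Comp Q x y) × F × F) :
    splitEquiv h p = (p.1 : V) + p.2.1 • x + p.2.2 • y := rfl

theorem Q_splitEquiv {x y : V} (h : Hyp Q x y) (p : ↥(Comp Q x y) × F × F) :
    Q (splitEquiv h p) = Q (p.1 : V) + p.2.1 * p.2.2 := by
  obtain ⟨⟨w, hw⟩, a, b⟩ := p
  obtain ⟨hx, hy⟩ := mem_Comp.1 hw
  have hx' : polar Q w x = 0 := by rw [polar_comm]; exact hx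
  have hy' : polar Q w y = 0 := by rw [polar_comm]; exact hy
  rw [splitEquiv_apply]
  simp only [Q_add, QuadraticMap.map_smul, polar_add_left, polar_smul_left, polar_smul_right, h.left, h.right, h.pair,
    hx', hy', smul_eq_mul]
  ring

theorem finrank_Comp [FiniteDimensional F V] {x y : V} (h : Hyp Q x y) :
    Module.finrank F V = Module.finrank F ↥(Comp Q x y) + 2 := by
  rw [← (splitEquiv h).finrank_eq, Module.finrank_prod, Module.finrank_prod, Module.finrank_self]

theorem nondeg_Comp (hQ : Nondeg Q) {x y : V} (h : Hyp Q x y) : Nondeg (Q.comp (Comp Q x y).subtype) := by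
  intro w hw
  apply Subtype.ext
  apply hQ
  intro v
  obtain ⟨hx, hy⟩ := mem_Comp.1 w.2
  have h1 := hw ⟨proj Q x y v, mem_Comp.2 ⟨polar_proj_left h v, polar_proj_right h v⟩⟩
  change polar Q (w : V) (proj Q x y v) = 0 at h1
  rwa [polar_proj_of_perp hx hy] at h1

end Split

theorem plusForm_eq (m : ℕ) (F : Type*) [Field F] :
    plusForm m F = Cfsg.Agent.LieClassical.QuadForms.plusForm m F :=
  DFunLike.coe_injective ((coe_plusForm m F).trans (Cfsg.Agent.LieClassical.QuadForms.coe_plusForm m).symm)

theorem minusForm_eq (m : ℕ) (F : Type*) [Field F] (a b : F) :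
    minusForm m F a b = Cfsg.Agent.LieClassical.QuadForms.minusForm m F a b :=
  DFunLike.coe_injective ((coe_minusForm m F a b).trans (Cfsg.Agent.LieClassical.QuadForms.coe_minusForm m a b).symm)

/-- `Q` is isometric to `plusForm m` -/
def IsPlus {F : Type*} [Field F] {V : Type*} [AddCommGroup V] [Module F V] (Q : QuadraticForm F V) (m : ℕ) : Prop :=
  ∃ e : (Fin m ⊕ Fin m → F) ≃ₗ[F] V, ∀ u, Q (e u) = plusForm m F u

/-- `Q` is isometric to `minusForm m a b`, with `a, b` anisotropic -/
def IsMinus {F : Type*} [Field F] {V : Type*} [AddCommGroup V] [Module F V] (Q : QuadraticForm F V) (m : ℕ) : Prop :=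
  ∃ a b : F, Aniso a b ∧ ∃ e : ((Fin m ⊕ Fin m) ⊕ Fin 2 → F) ≃ₗ[F] V, ∀ u, Q (e u) = minusForm m F a b u

section

variable {F : Type u} [Field F] {V : Type v} [AddCommGroup V] [Module F V] {Q : QuadraticForm F V}

theorem IsPlus.finrank {m : ℕ} (h : IsPlus Q m) : Module.finrank F V = 2 * m := by
  obtain ⟨e, -⟩ := h
  rw [← e.finrank_eq, Module.finrank_fintype_fun_eq_card, Fintype.card_sum, Fintype.card_fin]
  ring

theorem IsMinus.finrank {m : ℕ} (h : IsMinus Q m) : Module.finrank F V = 2 * m + 2 := by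
  obtain ⟨a, b, -, e, -⟩ := h
  rw [← e.finrank_eq, Module.finrank_fintype_fun_eq_card, Fintype.card_sum, Fintype.card_sum, Fintype.card_fin,
    Fintype.card_fin]
  ring

theorem IsPlus.step {x y : V} (h : Hyp Q x y) {m : ℕ} (hc : IsPlus (Q.comp (Comp Q x y).subtype) m) :
    IsPlus Q (m + 1) := by
  obtain ⟨e, he⟩ := hc
  refine ⟨((Cfsg.Agent.LieClassical.QuadForms.plusStep m F).symm.trans
    (e.prodCongr (LinearEquiv.refl F (F × F)))).trans (splitEquiv h), fun u => ?_⟩
  obtain ⟨⟨w, a, b⟩, rfl⟩ := (Cfsg.Agent.LieClassical.QuadForms.plusStep m F).surjective u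
  rw [plusForm_eq, Cfsg.Agent.LieClassical.QuadForms.plusForm_plusStep, LinearEquiv.trans_apply,
    LinearEquiv.trans_apply, LinearEquiv.symm_apply_apply, Q_splitEquiv, ← plusForm_eq, ← he]
  rfl

theorem IsMinus.step {x y : V} (h : Hyp Q x y) {m : ℕ} (hc : IsMinus (Q.comp (Comp Q x y).subtype) m) :
    IsMinus Q (m + 1) := by
  obtain ⟨a, b, hab, e, he⟩ := hc
  refine ⟨a, b, hab, ((Cfsg.Agent.LieClassical.QuadForms.minusStep m F).symm.trans
    (e.prodCongr (LinearEquiv.refl F (F × F)))).trans (splitEquiv h), fun u => ?_⟩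
  obtain ⟨⟨w, c, d⟩, rfl⟩ := (Cfsg.Agent.LieClassical.QuadForms.minusStep m F).surjective u
  rw [minusForm_eq, Cfsg.Agent.LieClassical.QuadForms.minusForm_minusStep, LinearEquiv.trans_apply,
    LinearEquiv.trans_apply, LinearEquiv.symm_apply_apply, Q_splitEquiv, ← minusForm_eq, ← he]
  rfl

end

/-- **Classification** of nondegenerate quadratic forms over finite fields of characteristic two. -/
theorem classify {F : Type u} [Field F] [Finite F] [CharP F 2] {V : Type v} [AddCommGroup V] [Module F V]
    [FiniteDimensional F V] (Q : QuadraticForm F V) (hQ : Nondeg Q) : ∃ m, IsPlus Q m ∨ IsMinus Q m := by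
  obtain ⟨n, hn⟩ : ∃ n, Module.finrank F V = n := ⟨_, rfl⟩
  induction n using Nat.strong_induction_on generalizing V with
  | _ n ih =>
    by_cases hs : ∃ x : V, x ≠ 0 ∧ Q x = 0
    · obtain ⟨x, hx0, hx⟩ := hs
      obtain ⟨y, hy⟩ := exists_hyp hQ hx hx0
      have hd := finrank_Comp hy
      obtain ⟨m, hm⟩ := ih _ (by omega) (Q.comp (Comp Q x y).subtype) (nondeg_Comp hQ hy) rfl
      rcases hm with hm | hm
      · exact ⟨m + 1, Or.inl (IsPlus.step hy hm)⟩
      · exact ⟨m + 1, Or.inr (IsMinus.step hy hm)⟩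
    · push Not at hs
      have hn3 : n < 3 := by
        by_contra hcon
        obtain ⟨w, hw0, hw, -⟩ := Cfsg.Agent.LieClassical.OrthFinite.exists_sing_perp (Q := Q) (n := 0) ![] (by omega)
        exact hs w hw0 hw
      rcases Nat.lt_or_ge n 1 with h0 | h1
      · -- dimension zero
        refine ⟨0, Or.inl ⟨LinearEquiv.ofFinrankEq _ _ (by
          rw [Module.finrank_fintype_fun_eq_card, Fintype.card_sum, Fintype.card_fin]
          omega), fun u => ?_⟩⟩
        have hu : u = 0 := Subsingleton.elim _ _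
        rw [hu, map_zero, QuadraticMap.map_zero, QuadraticMap.map_zero]
      · have hV : Nontrivial V := Module.nontrivial_of_finrank_pos (R := F) (by omega)
        obtain ⟨v0, hv0⟩ := exists_ne (0 : V)
        -- normalise `Q v = 1`
        obtain ⟨c, hc⟩ : ∃ c : F, c * c = Q v0 := by
          have hs : IsSquare (Q v0) := FiniteField.isSquare_of_char_two (ringChar.eq_iff.2 inferInstance) _
          obtain ⟨c, hc⟩ := hs
          exact ⟨c, hc.symm⟩
        have hc0 : c ≠ 0 := by
          rintro rfl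
          rw [mul_zero] at hc
          exact hs v0 hv0 hc.symm
        obtain ⟨v, hv0, hv⟩ : ∃ v : V, v ≠ 0 ∧ Q v = 1 := by
          refine ⟨c⁻¹ • v0, ?_, ?_⟩
          · intro h
            rcases smul_eq_zero.1 h with h | h
            · exact hc0 (inv_eq_zero.1 h)
            · exact hv0 h
          · rw [QuadraticMap.map_smul, ← hc, smul_eq_mul]
            field_simp
        have hvv : polar Q v v = 0 := by
          rw [polar_self', CharTwo.two_eq_zero, zero_mul]
        obtain ⟨w, hw⟩ := hQ.exists_polar_eq hv0 1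
        have hind : LinearIndependent F ![v, w] := by
          rw [LinearIndependent.pair_iff]
          intro s t hst
          have ht : t = 0 := by
            have h2 := congrArg (polar Q v) hst
            rw [polar_add_right, polar_smul_right, polar_smul_right, hvv, hw, polar_zero_right] at h2
            simpa using h2
          rw [ht, zero_smul, add_zero] at hst
          exact ⟨(smul_eq_zero.1 hst).resolve_right hv0, ht⟩
        have hn2 : Module.finrank F V = 2 := by
          have := hind.fintype_card_le_finrank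
          rw [Fintype.card_fin] at this
          omega
        let B := basisOfLinearIndependentOfCardEqFinrank hind (by rw [hn2, Fintype.card_fin])
        have hB : ∀ z : Fin 2 → F, B.equivFun.symm z = z 0 • v + z 1 • w := by
          intro z
          rw [Module.Basis.equivFun_symm_apply, Fin.sum_univ_two]
          simp [B]
        have hQz : ∀ z₁ z₂ : F, Q (z₁ • v + z₂ • w) = z₁ ^ 2 + 1 * z₁ * z₂ + Q w * z₂ ^ 2 := by
          intro z₁ z₂
          rw [Q_add, QuadraticMap.map_smul, QuadraticMap.map_smul, polar_smul_left, polar_smul_right, hw, hv]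
          simp only [smul_eq_mul]
          ring
        refine ⟨0, Or.inr ⟨1, Q w, ?_, ?_⟩⟩
        · intro z₁ z₂ hz
          rw [← hQz] at hz
          have h3 : z₁ • v + z₂ • w = 0 := by
            by_contra hne
            exact hs _ hne hz
          exact LinearIndependent.pair_iff.1 hind _ _ h3
        · let e0 : ((Fin 0 ⊕ Fin 0) ⊕ Fin 2 → F) ≃ₗ[F] (Fin 2 → F) :=
            LinearEquiv.funCongrLeft F F (Equiv.emptySum (Fin 0 ⊕ Fin 0) (Fin 2)).symm
          refine ⟨e0.trans B.equivFun.symm, fun u => ?_⟩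
          rw [LinearEquiv.trans_apply, hB, hQz, coe_minusForm]
          simp [quadFormMinus_apply, e0, LinearEquiv.funCongrLeft]


/-! ### Anisotropic binary forms are isometric -/

section Binary

variable {F : Type*} [Field F] [Finite F] [CharP F 2]

theorem exists_sq (b : F) : ∃ c : F, c * c = b := by
  obtain ⟨c, hc⟩ := FiniteField.isSquare_of_char_two (ringChar.eq_iff.2 inferInstance) b
  exact ⟨c, hc.symm⟩

theorem Aniso.ne_zero {a b : F} (h : Aniso a b) : a ≠ 0 := by
  rintro rfl
  obtain ⟨c, hc⟩ := exists_sq b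
  have h1 := (h c 1 (by
    have h2 : (2 : F) = 0 := CharTwo.two_eq_zero
    linear_combination c * c * h2 - hc)).2
  exact one_ne_zero h1

/-- The Artin–Schreier map. -/
def asMap (F : Type*) [Field F] [CharP F 2] : F →+ F where
  toFun x := x ^ 2 + x
  map_zero' := by simp
  map_add' x y := by
    have h2 : (2 : F) = 0 := CharTwo.two_eq_zero
    linear_combination x * y * h2

theorem asMap_apply (x : F) : asMap F x = x ^ 2 + x := rfl

theorem card_ker_asMap : Nat.card (asMap F).ker = 2 := by
  have h : ((asMap F).ker : Set F) = {0, 1} := by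
    ext x
    rw [SetLike.mem_coe, AddMonoidHom.mem_ker, asMap_apply, Set.mem_insert_iff, Set.mem_singleton_iff]
    constructor
    · intro hx
      have h3 : x * (x + 1) = 0 := by linear_combination hx
      rcases mul_eq_zero.1 h3 with h3 | h3
      · exact Or.inl h3
      · right
        have h2 : (1 : F) + 1 = 0 := CharTwo.add_self_eq_zero 1
        linear_combination h3 - h2
    · rintro (rfl | rfl)
      · simp
      · rw [one_pow]
        exact CharTwo.add_self_eq_zero 1
  rw [← SetLike.coe_sort_coe, h, Nat.card_coe_set_eq, Set.ncard_pair zero_ne_one]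

theorem index_range_asMap : (asMap F).range.index = 2 := by
  have h1 := (asMap F).range.card_mul_index
  have h2 : Nat.card (asMap F).range * Nat.card (asMap F).ker = Nat.card F := by
    rw [← AddSubgroup.index_ker, mul_comm, AddSubgroup.card_mul_index]
  rw [card_ker_asMap] at h2
  have h3 : 0 < Nat.card (asMap F).range := Nat.card_pos
  rw [← h2] at h1
  exact Nat.eq_of_mul_eq_mul_left h3 h1

theorem Aniso.notMem {b : F} (h : Aniso 1 b) : b ∉ (asMap F).range := by
  rintro ⟨x, hx⟩
  rw [asMap_apply] at hx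
  have h2 : (2 : F) = 0 := CharTwo.two_eq_zero
  have := (h x 1 (by linear_combination hx + b * h2)).2
  exact one_ne_zero this

/-- Rescaling the second coordinate. -/
def scaleEquiv (a : F) (ha : a ≠ 0) : (Fin 2 → F) ≃ₗ[F] (Fin 2 → F) where
  toFun z := ![z 0, a⁻¹ * z 1]
  invFun z := ![z 0, a * z 1]
  map_add' x y := by
    funext i
    fin_cases i <;> simp [mul_add]
  map_smul' c x := by
    funext i
    fin_cases i <;> simp [mul_left_comm]
  left_inv z := by
    funext i
    fin_cases i <;> simp [ha]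
  right_inv z := by
    funext i
    fin_cases i <;> simp [ha]

/-- Shearing the first coordinate. -/
def shearEquiv (c : F) : (Fin 2 → F) ≃ₗ[F] (Fin 2 → F) where
  toFun z := ![z 0 + c * z 1, z 1]
  invFun z := ![z 0 - c * z 1, z 1]
  map_add' x y := by
    funext i
    fin_cases i
    · simp; ring
    · simp
  map_smul' c x := by
    funext i
    fin_cases i
    · simp; ring
    · simp
  left_inv z := by
    funext i
    fin_cases i <;> simp
  right_inv z := by
    funext i
    fin_cases i <;> simp

/-- The binary form as a function. -/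
def bin (a b : F) (z : Fin 2 → F) : F := z 0 ^ 2 + a * z 0 * z 1 + b * z 1 ^ 2

theorem bin_scale {a b : F} (ha : a ≠ 0) (z : Fin 2 → F) :
    bin a b (scaleEquiv a ha z) = bin 1 (b * (a⁻¹) ^ 2) z := by
  simp only [bin, scaleEquiv, LinearEquiv.coe_mk, LinearMap.coe_mk, AddHom.coe_mk, Matrix.cons_val_zero,
    Matrix.cons_val_one]
  field_simp

theorem Aniso.scale {a b : F} (h : Aniso a b) : Aniso 1 (b * (a⁻¹) ^ 2) := by
  have ha := h.ne_zero
  intro z₁ z₂ hz
  have h1 := h z₁ (a⁻¹ * z₂) (by
    rw [← hz]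
    field_simp)
  refine ⟨h1.1, ?_⟩
  rcases mul_eq_zero.1 h1.2 with h2 | h2
  · exact absurd h2 (inv_ne_zero ha)
  · exact h2

theorem bin_congr {a b a' b' : F} (h : Aniso a b) (h' : Aniso a' b') :
    ∃ e : (Fin 2 → F) ≃ₗ[F] (Fin 2 → F), ∀ z, bin a b (e z) = bin a' b' z := by
  have hμ := h.scale.notMem
  have hμ' := h'.scale.notMem
  have h3 : b * (a⁻¹) ^ 2 + b' * (a'⁻¹) ^ 2 ∈ (asMap F).range :=
    (AddSubgroup.add_mem_iff_of_index_two index_range_asMap).2 (iff_of_false hμ hμ')
  obtain ⟨c, hc⟩ := h3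
  rw [asMap_apply] at hc
  have h2 : (2 : F) = 0 := CharTwo.two_eq_zero
  refine ⟨((scaleEquiv a' h'.ne_zero).symm.trans (shearEquiv c)).trans (scaleEquiv a h.ne_zero), fun z => ?_⟩
  obtain ⟨w, rfl⟩ := (scaleEquiv a' h'.ne_zero).surjective z
  rw [LinearEquiv.trans_apply, LinearEquiv.trans_apply, LinearEquiv.symm_apply_apply, bin_scale, bin_scale]
  simp only [bin, shearEquiv, LinearEquiv.coe_mk, LinearMap.coe_mk, AddHom.coe_mk, Matrix.cons_val_zero,
    Matrix.cons_val_one]
  linear_combination w 1 ^ 2 * hc + (c * w 0 * w 1 + b * (a⁻¹) ^ 2 * w 1 ^ 2) * h2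

end Binary

/-- Any two anisotropic binary parts give isometric forms. -/
theorem IsMinus.exists_equiv {F : Type u} [Field F] [Finite F] [CharP F 2] {V : Type v} [AddCommGroup V] [Module F V]
    {Q : QuadraticForm F V} {m : ℕ} (h : IsMinus Q m) {a b : F} (hab : Aniso a b) :
    ∃ e : ((Fin m ⊕ Fin m) ⊕ Fin 2 → F) ≃ₗ[F] V, ∀ u, Q (e u) = minusForm m F a b u := by
  obtain ⟨a', b', hab', e, he⟩ := h
  obtain ⟨f, hf⟩ := bin_congr hab' hab
  let G : ((Fin m ⊕ Fin m) ⊕ Fin 2 → F) ≃ₗ[F] ((Fin m ⊕ Fin m) ⊕ Fin 2 → F) :=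
    ((LinearEquiv.sumArrowLequivProdArrow (Fin m ⊕ Fin m) (Fin 2) F F).trans
      ((LinearEquiv.refl F (Fin m ⊕ Fin m → F)).prodCongr f)).trans
      (LinearEquiv.sumArrowLequivProdArrow (Fin m ⊕ Fin m) (Fin 2) F F).symm
  refine ⟨G.trans e, fun u => ?_⟩
  rw [LinearEquiv.trans_apply, he, coe_minusForm, coe_minusForm, quadFormMinus_apply, quadFormMinus_apply]
  have h1 := hf (fun i => u (.inr i))
  rw [bin, bin] at h1
  have h2 : ∀ i, G u (.inl i) = u (.inl i) := fun i => rfl
  have h3 : ∀ i, G u (.inr i) = f (fun i => u (.inr i)) i := fun i => rfl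
  simp only [h2, h3]
  rw [h1]

end Cfsg.Agent.H403.Classify
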