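import Cfsg.Agent.H403.ClassifyEven
import Cfsg.Agent.H403.TorusList
import Cfsg.Agent.S0306
set_option linter.all false

-- part: H403/GaussSum
section
/-!
# Gauss sums of quadratic forms in characteristic two and the type of a form (helper403)

`HasSign Q n ε` : for every nontrivial additive character `ψ : F → ℤ` the sum of `ψ (Q v)` is `ε * q ^ n`.
Multiplicative for orthogonal sums and invariant under restriction of scalars; `ε = 1` for plus type, `-1` for minus
type.
-/

set_option autoImplicit false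
set_option linter.unusedSectionVars false
set_option linter.style.haveILetI false

namespace Cfsg.Agent.H403

open QuadraticMap
open Cfsg.Agent.LieClassical.OrthCore Cfsg.Agent.LieClassical.OrthForms
open Cfsg.Agent.H403.Classify

section Def

variable {F : Type*} [Field F] [Finite F]

/-- The Gauss sum of a function with values in `F`. -/
noncomputable def gs {V : Type*} [Finite V] (ψ : AddChar F ℤ) (Q : V → F) : ℤ :=
  letI := Fintype.ofFinite V
  ∑ v, ψ (Q v)

theorem gs_eq {V : Type*} [Fintype V] (ψ : AddChar F ℤ) (Q : V → F) : gs ψ Q = ∑ v, ψ (Q v) := by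
  rw [gs]
  congr!

theorem gs_congr {V W : Type*} [Finite V] [Finite W] (ψ : AddChar F ℤ) {Q : V → F} {Q' : W → F} (e : V ≃ W)
    (h : ∀ v, Q' (e v) = Q v) : gs ψ Q = gs ψ Q' := by
  classical
  letI := Fintype.ofFinite V
  letI := Fintype.ofFinite W
  rw [gs_eq, gs_eq]
  exact Fintype.sum_equiv e _ _ fun v => by rw [h]

theorem gs_prod {V W : Type*} [Finite V] [Finite W] (ψ : AddChar F ℤ) (Q : V → F) (Q' : W → F) :
    gs ψ (fun p : V × W => Q p.1 + Q' p.2) = gs ψ Q * gs ψ Q' := by
  letI := Fintype.ofFinite V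
  letI := Fintype.ofFinite W
  rw [gs_eq, gs_eq, gs_eq, Fintype.sum_prod_type, Finset.sum_mul_sum]
  simp only [AddChar.map_add_eq_mul]

/-- The sign of a form. -/
def HasSign {V : Type*} [Finite V] (Q : V → F) (n : ℕ) (ε : ℤ) : Prop :=
  ∀ ψ : AddChar F ℤ, ψ ≠ 1 → gs ψ Q = ε * (Nat.card F : ℤ) ^ n

theorem HasSign.congr {V W : Type*} [Finite V] [Finite W] {Q : V → F} {Q' : W → F} {n : ℕ} {ε : ℤ} (h : HasSign Q n ε)
    (e : V ≃ W) (he : ∀ v, Q' (e v) = Q v) : HasSign Q' n ε := fun ψ hψ => by
  rw [← gs_congr ψ e he]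
  exact h ψ hψ

theorem HasSign.prod {V W : Type*} [Finite V] [Finite W] {Q : V → F} {Q' : W → F} {n n' : ℕ} {ε ε' : ℤ}
    (h : HasSign Q n ε) (h' : HasSign Q' n' ε') : HasSign (fun p : V × W => Q p.1 + Q' p.2) (n + n') (ε * ε') :=
  fun ψ hψ => by
    rw [gs_prod, h ψ hψ, h' ψ hψ, pow_add]
    ring

theorem hasSign_mul : HasSign (fun p : F × F => p.1 * p.2) 1 1 := by
  classical
  intro ψ hψ
  letI := Fintype.ofFinite F
  have hp : ψ.IsPrimitive := AddChar.IsPrimitive.of_ne_one hψ
  rw [gs_eq, Fintype.sum_prod_type_right]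
  simp only [AddChar.sum_mulShift _ hp]
  simp

theorem hasSign_zero {V : Type*} [Finite V] [Subsingleton V] [Nonempty V] (Q : V → F) (hQ : ∀ v, Q v = 0) :
    HasSign Q 0 1 := by
  intro ψ _
  letI := Fintype.ofFinite V
  rw [gs_eq]
  have h1 : Fintype.card V = 1 :=
    le_antisymm (Fintype.card_le_one_iff_subsingleton.2 inferInstance) Fintype.card_pos
  simp [hQ, h1]

/-- Restriction of scalars. -/
theorem HasSign.res {K : Type*} [Field K] [Finite K] [Algebra F K] {V : Type*} [Finite V] {Q : V → K} {n : ℕ} {ε : ℤ}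
    (h : HasSign Q n ε) : HasSign (fun v => Algebra.trace F K (Q v)) (Module.finrank F K * n) ε := by
  intro ψ hψ
  let ψ' : AddChar K ℤ := ψ.compAddMonoidHom (Algebra.trace F K).toAddMonoidHom
  have hψ' : ψ' ≠ 1 := by
    intro h1
    apply hψ
    ext x
    obtain ⟨y, rfl⟩ := Algebra.trace_surjective F K x
    have := DFunLike.congr_fun h1 y
    exact this
  have h2 := h ψ' hψ'
  have h3 : gs ψ' Q = gs ψ (fun v => Algebra.trace F K (Q v)) := rfl
  rw [← h3, h2]
  congr 1
  rw [pow_mul]
  congr 1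
  rw [Module.natCard_eq_pow_finrank (K := F) (V := K), Nat.cast_pow]

end Def

section Signs

variable {F : Type*} [Field F] [Finite F]

theorem hasSign_plusForm (m : ℕ) : HasSign (⇑(plusForm m F)) m 1 := by
  induction m with
  | zero =>
    exact hasSign_zero _ fun v => by
      rw [Subsingleton.elim v 0, QuadraticMap.map_zero]
  | succ m ih =>
    have h := ih.prod (hasSign_mul (F := F))
    rw [one_mul] at h
    refine h.congr (Cfsg.Agent.LieClassical.QuadForms.plusStep m F).toEquiv fun v => ?_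
    rw [plusForm_eq, plusForm_eq]
    exact Cfsg.Agent.LieClassical.QuadForms.plusForm_plusStep m v.1 v.2.1 v.2.2

theorem hasSign_bin [CharP F 2] {a b : F} (hab : Aniso a b) : HasSign (bin a b) 1 (-1) := by
  classical
  intro ψ hψ
  letI := Fintype.ofFinite F
  have hp : ψ.IsPrimitive := AddChar.IsPrimitive.of_ne_one hψ
  rw [gs_eq]
  have h1 : ∀ c : F, ∑ z : Fin 2 → F, ψ (c * bin a b z) = if c = 0 then ((Fintype.card F : ℤ)) ^ 2 else
      ∑ z : Fin 2 → F, ψ (bin a b z) := by
    intro c
    split_ifs with hc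
    · simp [hc]
    · obtain ⟨d, hd⟩ := exists_sq c
      have hd0 : d ≠ 0 := by
        rintro rfl
        exact hc (by rw [← hd, mul_zero])
      refine Fintype.sum_equiv (MulAction.toPerm (Units.mk0 d hd0)) _ _ fun z => ?_
      congr 1
      simp only [MulAction.toPerm_apply, bin, Pi.smul_apply, Units.smul_def, Units.val_mk0, smul_eq_mul]
      rw [← hd]
      ring
  have h2 : ∑ c : F, ∑ z : Fin 2 → F, ψ (c * bin a b z) = (Fintype.card F : ℤ) := by
    rw [Finset.sum_comm]
    have h3 : ∀ z : Fin 2 → F, ∑ c : F, ψ (c * bin a b z) = if z = 0 then (Fintype.card F : ℤ) else 0 := by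
      intro z
      rw [AddChar.sum_mulShift _ hp]
      have h4 : bin a b z = 0 ↔ z = 0 := by
        constructor
        · intro h
          obtain ⟨h5, h6⟩ := hab _ _ h
          funext i
          fin_cases i
          · exact h5
          · exact h6
        · rintro rfl
          simp [bin]
      simp only [h4]
      split_ifs <;> rfl
    simp only [h3]
    simp
  rw [Finset.sum_congr rfl fun c _ => h1 c] at h2
  rw [← Finset.add_sum_erase _ _ (Finset.mem_univ (0 : F)), if_pos rfl] at h2
  rw [Finset.sum_congr rfl (fun c hc => if_neg (Finset.ne_of_mem_erase hc))] at h2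
  rw [Finset.sum_const, Finset.card_erase_of_mem (Finset.mem_univ _), Finset.card_univ, nsmul_eq_mul,
    Nat.cast_sub Fintype.card_pos, Nat.cast_one] at h2
  have hq : 1 < Fintype.card F := Fintype.one_lt_card
  have hq' : ((Fintype.card F : ℤ) - 1) ≠ 0 := by
    have : (1 : ℤ) < Fintype.card F := by exact_mod_cast hq
    omega
  rw [Nat.card_eq_fintype_card, pow_one]
  apply mul_left_cancel₀ hq'
  linear_combination h2

theorem hasSign_minusForm [CharP F 2] (m : ℕ) {a b : F} (hab : Aniso a b) :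
    HasSign (⇑(minusForm m F a b)) (m + 1) (-1) := by
  induction m with
  | zero =>
    rw [zero_add]
    refine (hasSign_bin hab).congr (Equiv.arrowCongr (Equiv.emptySum (Fin 0 ⊕ Fin 0) (Fin 2)).symm (Equiv.refl F))
      fun v => ?_
    rw [coe_minusForm, quadFormMinus_apply]
    simp [bin]
  | succ m ih =>
    have h := ih.prod (hasSign_mul (F := F))
    rw [mul_one] at h
    refine h.congr (Cfsg.Agent.LieClassical.QuadForms.minusStep m F).toEquiv fun v => ?_
    rw [minusForm_eq, minusForm_eq]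
    exact Cfsg.Agent.LieClassical.QuadForms.minusForm_minusStep m a b v.1 v.2.1 v.2.2

/-- A nontrivial additive character with values `±1`. -/
theorem exists_addChar [CharP F 2] : ∃ ψ : AddChar F ℤ, ψ ≠ 1 := by
  classical
  letI := ZMod.algebra F 2
  obtain ⟨f, hf⟩ : ∃ f : F →ₗ[ZMod 2] ZMod 2, f 1 ≠ 0 := by
    by_contra hcon
    push Not at hcon
    exact one_ne_zero ((Module.forall_dual_apply_eq_zero_iff (ZMod 2) (1 : F)).1 hcon)
  refine ⟨⟨fun x => if f x = 0 then 1 else -1, by simp, fun x y => ?_⟩, ?_⟩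
  · have h2 : ∀ t : ZMod 2, t = 0 ∨ t = 1 := by decide
    rw [map_add]
    rcases h2 (f x) with h | h <;> rcases h2 (f y) with h' | h' <;> rw [h, h']
    · simp
    · simp
    · simp
    · have : (1 : ZMod 2) + 1 = 0 := by decide
      simp [this]
  · intro h
    have := DFunLike.congr_fun h (1 : F)
    change (if f 1 = 0 then (1 : ℤ) else -1) = 1 at this
    rw [if_neg hf] at this
    omega

end Signs

/-- **Type of a form from its sign.** -/
theorem isMinus_of_hasSign {F : Type*} [Field F] [Finite F] [CharP F 2] {V : Type*} [AddCommGroup V] [Module F V]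
    [Finite V] {Q : QuadraticForm F V} (hQ : Nondeg Q) {n : ℕ} (h : HasSign (⇑Q) n (-1)) :
    ∃ m, n = m + 1 ∧ IsMinus Q m := by
  have : FiniteDimensional F V := Module.Finite.of_finite
  obtain ⟨ψ, hψ⟩ := exists_addChar (F := F)
  have hq : (1 : ℤ) < Nat.card F := by exact_mod_cast Finite.one_lt_card
  obtain ⟨m, hm | hm⟩ := classify Q hQ
  · exfalso
    obtain ⟨e, he⟩ := hm
    have h1 := ((hasSign_plusForm (F := F) m).congr e.toEquiv he) ψ hψ
    rw [h ψ hψ] at h1
    have h2 : (0 : ℤ) < (Nat.card F : ℤ) ^ n := by positivity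
    have h3 : (0 : ℤ) < (Nat.card F : ℤ) ^ m := by positivity
    omega
  · refine ⟨m, ?_, hm⟩
    obtain ⟨a, b, hab, e, he⟩ := hm
    have h1 := ((hasSign_minusForm (F := F) m hab).congr e.toEquiv he) ψ hψ
    rw [h ψ hψ] at h1
    have h2 : (Nat.card F : ℤ) ^ n = (Nat.card F : ℤ) ^ (m + 1) := by linear_combination -h1
    have h3 : Nat.card F ^ n = Nat.card F ^ (m + 1) := by exact_mod_cast h2
    exact Nat.pow_right_injective (Finite.one_lt_card (α := F)) h3

end Cfsg.Agent.H403
end

-- part: H403/Elt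
section
/-!
# Elements of orthogonal groups in characteristic two: constructions (helper403)

`Elt F n ε N`: there is a nondegenerate quadratic form over `F` of sign `ε` in dimension `2n` with an isometry of
order `N`.
-/

set_option autoImplicit false
set_option linter.unusedSectionVars false
set_option linter.style.haveILetI false

namespace Cfsg.Agent.H403

open QuadraticMap
open Cfsg.Agent.LieClassical.OrthCore Cfsg.Agent.LieClassical.OrthForms
open Cfsg.Agent.H403.Classify

section

variable (F : Type*) [Field F] [Finite F]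

/-- A nondegenerate quadratic form of sign `ε` (in dimension `2n`) has an isometry of order `N`. -/
def Elt (n : ℕ) (ε : ℤ) (N : ℕ) : Prop :=
  0 < N ∧ ∃ (d : ℕ) (Q : QuadraticForm F (Fin d → F)) (g : Module.End F (Fin d → F)),
    Nondeg Q ∧ HasSign (⇑Q) n ε ∧ (∀ v, Q (g v) = Q v) ∧ orderOf g = N

variable {F}

theorem Elt.of {V : Type*} [AddCommGroup V] [Module F V] [Finite V] {Q : QuadraticForm F V} {g : Module.End F V}
    (hQ : Nondeg Q) {n : ℕ} {ε : ℤ} (hs : HasSign (⇑Q) n ε) (hg : ∀ v, Q (g v) = Q v) {N : ℕ} (hN : 0 < N)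
    (ho : orderOf g = N) : Elt F n ε N := by
  have : Module.Finite F V := Module.Finite.of_finite
  let e : V ≃ₗ[F] (Fin (Module.finrank F V) → F) := (Module.finBasis F V).equivFun
  refine ⟨hN, Module.finrank F V, Q.comp (e.symm : _ →ₗ[F] V), e.conj g, ?_, ?_, ?_, ?_⟩
  · intro x hx
    have h1 : e.symm x = 0 := by
      apply hQ
      intro y
      have := hx (e y)
      change Q (e.symm (x + e y)) - Q (e.symm x) - Q (e.symm (e y)) = 0 at this
      rw [map_add, LinearEquiv.symm_apply_apply] at this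
      exact this
    exact (LinearEquiv.map_eq_zero_iff _).1 h1
  · refine hs.congr e.toEquiv fun v => ?_
    change Q (e.symm (e v)) = Q v
    rw [LinearEquiv.symm_apply_apply]
  · intro v
    change Q (e.symm (e (g (e.symm v)))) = Q (e.symm v)
    rw [LinearEquiv.symm_apply_apply, hg]
  · rw [← ho, orderOf_eq_orderOf_iff]
    intro k
    have h2 : (e.conj g) ^ k = e.conj (g ^ k) := by
      change (LinearEquiv.conjRingEquiv e g) ^ k = LinearEquiv.conjRingEquiv e (g ^ k)
      rw [map_pow]
    rw [h2]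
    constructor
    · intro h
      apply e.conj.injective
      rw [h]
      exact (LinearEquiv.conjRingEquiv e).map_one.symm
    · intro h
      rw [h]
      exact (LinearEquiv.conjRingEquiv e).map_one

theorem Elt.dvd {n : ℕ} {ε : ℤ} {N M : ℕ} (h : Elt F n ε N) (hM : M ∣ N) : Elt F n ε M := by
  obtain ⟨hN, d, Q, g, hQ, hs, hg, ho⟩ := h
  obtain ⟨c, hc⟩ := hM
  have hc0 : c ≠ 0 := by
    rintro rfl
    omega
  have hM0 : 0 < M := by
    rcases Nat.eq_zero_or_pos M with rfl | h
    · omega
    · exact h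
  refine ⟨hM0, d, Q, g ^ c, hQ, hs, ?_, ?_⟩
  · intro v
    clear hc hc0
    induction c generalizing v with
    | zero => rfl
    | succ c ih =>
      rw [pow_succ, Module.End.mul_apply, ih, hg]
  · rw [orderOf_pow' g hc0, ho, hc, Nat.gcd_eq_right (Dvd.intro_left _ rfl)]
    exact Nat.mul_div_cancel _ (Nat.pos_of_ne_zero hc0)

theorem Elt.prod {n n' : ℕ} {ε ε' : ℤ} {N N' : ℕ} (h : Elt F n ε N) (h' : Elt F n' ε' N') :
    Elt F (n + n') (ε * ε') (Nat.lcm N N') := by
  obtain ⟨hN, d, Q, g, hQ, hs, hg, ho⟩ := h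
  obtain ⟨hN', d', Q', g', hQ', hs', hg', ho'⟩ := h'
  refine Elt.of (V := (Fin d → F) × (Fin d' → F))
    (Q := Q.comp (LinearMap.fst F _ _) + Q'.comp (LinearMap.snd F _ _)) (g := g.prodMap g')
    ?_ (hs.prod hs') ?_ (Nat.lcm_pos hN hN') ?_
  · intro x hx
    refine Prod.ext (hQ _ fun y => ?_) (hQ' _ fun y => ?_)
    · have := hx (y, 0)
      simp only [polar, add_apply, QuadraticMap.comp_apply, LinearMap.fst_apply, LinearMap.snd_apply,
        Prod.fst_add, Prod.snd_add, add_zero, QuadraticMap.map_zero] at this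
      rw [polar]
      linear_combination this
    · have := hx (0, y)
      simp only [polar, add_apply, QuadraticMap.comp_apply, LinearMap.fst_apply, LinearMap.snd_apply,
        Prod.fst_add, Prod.snd_add, add_zero, QuadraticMap.map_zero] at this
      rw [polar]
      linear_combination this
  · intro v
    simp only [add_apply, QuadraticMap.comp_apply, LinearMap.fst_apply, LinearMap.snd_apply,
      LinearMap.prodMap_apply, hg, hg']
  · rw [← ho, ← ho', ← Prod.orderOf (g, g')]
    have h1 : g.prodMap g' = LinearMap.prodMapRingHom F (Fin d → F) (Fin d' → F) (g, g') := rfl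
    rw [h1]
    apply orderOf_injective
    rintro ⟨a, b⟩ ⟨a', b'⟩ hab
    have h2 : ∀ x y, (a x, b y) = (a' x, b' y) := fun x y => LinearMap.congr_fun hab (x, y)
    refine Prod.ext (LinearMap.ext fun x => congrArg Prod.fst (h2 x 0)) (LinearMap.ext fun y => congrArg Prod.snd (h2 0 y))

theorem orderOf_restrictScalars {K V : Type*} [Field K] [Algebra F K] [AddCommGroup V] [Module F V] [Module K V]
    [IsScalarTower F K V] (g : Module.End K V) : orderOf (g.restrictScalars F : Module.End F V) = orderOf g := by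
  rw [orderOf_eq_orderOf_iff]
  intro k
  have h : ∀ (k : ℕ) (v : V), ((g.restrictScalars F : Module.End F V) ^ k) v = (g ^ k) v := by
    intro k
    induction k with
    | zero => intro v; rfl
    | succ k ih =>
      intro v
      rw [pow_succ, pow_succ, Module.End.mul_apply, Module.End.mul_apply, ih]
      rfl
  constructor
  · intro h1
    ext v
    rw [← h, h1]
    rfl
  · intro h1
    ext v
    rw [h, h1]
    rfl

/-- Restriction of scalars. -/
theorem Elt.res {K : Type*} [Field K] [Finite K] [Algebra F K] {n : ℕ} {ε : ℤ} {N : ℕ} (h : Elt K n ε N) :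
    Elt F (Module.finrank F K * n) ε N := by
  obtain ⟨hN, d, Q, g, hQ, hs, hg, ho⟩ := h
  let Q' : QuadraticForm F (Fin d → K) := (Algebra.trace F K).compQuadraticMap' Q
  have hQ' : ∀ v, Q' v = Algebra.trace F K (Q v) := fun v => rfl
  refine Elt.of (V := Fin d → K) (Q := Q') (g := g.restrictScalars F) ?_ ?_ ?_ hN ?_
  · intro x hx
    apply hQ
    intro y
    have h1 : ∀ c : K, Algebra.trace F K (c * polar Q x y) = 0 := by
      intro c
      have h2 := hx (c • y)
      simp only [polar, hQ'] at h2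
      rw [← map_sub, ← map_sub] at h2
      have h3 : polar Q x (c • y) = c * polar Q x y := by
        rw [polar_smul_right, smul_eq_mul]
      rw [← h3]
      exact h2
    have h4 := traceForm_nondegenerate F K
    by_contra hne
    obtain ⟨t, ht⟩ := Algebra.trace_surjective F K 1
    have h5 := h1 (t * (polar Q x y)⁻¹)
    rw [mul_assoc, inv_mul_cancel₀ hne, mul_one, ht] at h5
    exact one_ne_zero h5
  · exact hs.res
  · intro v
    rw [hQ', hQ']
    congr 1
    exact hg v
  · rw [orderOf_restrictScalars, ho]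

end

end Cfsg.Agent.H403
end

-- part: H403/EltConstr
section
/-!
# Torus elements and regular unipotent elements of orthogonal groups in characteristic two (helper403)
-/

set_option autoImplicit false
set_option linter.unusedSectionVars false
set_option linter.style.haveILetI false

namespace Cfsg.Agent.H403

open QuadraticMap
open Cfsg.Agent.LieClassical.OrthCore Cfsg.Agent.LieClassical.OrthForms
open Cfsg.Agent.LieClassical.OrthFinite
open Cfsg.Agent.H403.Classify

section

variable {F : Type*} [Field F] [Finite F]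

theorem elt_one (n : ℕ) : Elt F n 1 1 :=
  Elt.of (V := Fin n ⊕ Fin n → F) (Q := plusForm n F) (g := 1) (nondeg_plusForm n F) (hasSign_plusForm n)
    (fun _ => rfl) one_pos orderOf_one

/-- The hyperbolic plane. -/
theorem elt_hyp {N : ℕ} (hN : N ∣ Nat.card F - 1) : Elt F 1 1 N := by
  have hq := Finite.one_lt_card (α := F)
  refine Elt.dvd ?_ hN
  obtain ⟨l, hl⟩ := IsCyclic.exists_ofOrder_eq_natCard (α := Fˣ)
  rw [Nat.card_units] at hl
  let Q : QuadraticForm F (F × F) := QuadraticMap.linMulLin (LinearMap.fst F F F) (LinearMap.snd F F F)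
  have hQ : ∀ v : F × F, Q v = v.1 * v.2 := fun v => rfl
  let g : Module.End F (F × F) :=
    ((l : F) • (LinearMap.id : F →ₗ[F] F)).prodMap (((l⁻¹ : Fˣ) : F) • (LinearMap.id : F →ₗ[F] F))
  have hg : ∀ (k : ℕ) (v : F × F), (g ^ k) v = (((l ^ k : Fˣ) : F) * v.1, (((l ^ k)⁻¹ : Fˣ) : F) * v.2) := by
    intro k
    induction k with
    | zero => intro v; simp
    | succ k ih =>
      intro v
      rw [pow_succ, Module.End.mul_apply, ih]
      change (((l ^ k : Fˣ) : F) * ((l : F) * v.1), (((l ^ k)⁻¹ : Fˣ) : F) * (((l⁻¹ : Fˣ) : F) * v.2)) = _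
      rw [pow_succ, mul_inv_rev, Units.val_mul, Units.val_mul, mul_assoc]
      congr 1
      rw [mul_comm ((l⁻¹ : Fˣ) : F) (((l ^ k)⁻¹ : Fˣ) : F), mul_assoc]
  refine Elt.of (V := F × F) (Q := Q) (g := g) ?_ hasSign_mul ?_ (by omega) ?_
  · intro x hx
    have h1 := hx (0, 1)
    have h2 := hx (1, 0)
    simp only [polar, hQ, Prod.fst_add, Prod.snd_add] at h1 h2
    refine Prod.ext ?_ ?_
    · change x.1 = 0
      linear_combination h1
    · change x.2 = 0
      linear_combination h2
  · intro v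
    have h := hg 1 v
    rw [pow_one] at h
    rw [h, hQ, hQ, pow_one]
    change (l : F) * v.1 * (((l⁻¹ : Fˣ) : F) * v.2) = v.1 * v.2
    have h1 : (l : F) * ((l⁻¹ : Fˣ) : F) = 1 := Units.mul_inv l
    linear_combination v.1 * v.2 * h1
  · rw [← hl, orderOf_eq_orderOf_iff]
    intro k
    constructor
    · intro h
      have h1 := hg k (1, 0)
      rw [h] at h1
      have h2 := congrArg Prod.fst h1
      simp only [mul_one] at h2
      exact Units.ext h2.symm
    · intro h
      ext <;> simp [hg, h]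

variable [CharP F 2]

theorem exists_aniso : ∃ μ : F, Aniso 1 μ := by
  obtain ⟨μ, hμ⟩ : ∃ μ, μ ∉ (asMap F).range := by
    by_contra hcon
    push Not at hcon
    have h1 : (asMap F).range = ⊤ := eq_top_iff.2 fun x _ => hcon x
    have h2 := index_range_asMap (F := F)
    rw [h1, AddSubgroup.index_top] at h2
    omega
  refine ⟨μ, fun z₁ z₂ h => ?_⟩
  have h20 : (2 : F) = 0 := CharTwo.two_eq_zero
  by_cases hz : z₂ = 0
  · rw [hz] at h
    refine ⟨?_, hz⟩
    have : z₁ ^ 2 = 0 := by linear_combination h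
    exact (pow_eq_zero_iff two_ne_zero).1 this
  · exfalso
    apply hμ
    refine ⟨z₁ / z₂, ?_⟩
    rw [asMap_apply]
    field_simp
    linear_combination h - z₂ ^ 2 * μ * h20

/-- The elliptic plane. -/
theorem elt_ell {N : ℕ} (hN : N ∣ Nat.card F + 1) : Elt F 1 (-1) N := by
  classical
  letI := Fintype.ofFinite F
  refine Elt.dvd ?_ hN
  obtain ⟨μ, hμ⟩ := exists_aniso (F := F)
  obtain ⟨e⟩ := Cfsg.Agent.S0306.result (F := F) (q := Nat.card F) (Nat.card_eq_fintype_card).symm 1 μ hμ
  set h : Cfsg.isometryGroup F (Cfsg.quadFormMinus 0 F 1 μ) := e.symm (DihedralGroup.r 1) with hh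
  have hho : orderOf h = Nat.card F + 1 := by
    rw [hh, MulEquiv.orderOf_eq, DihedralGroup.orderOf_r_one]
  set M : Matrix ((Fin 0 ⊕ Fin 0) ⊕ Fin 2) ((Fin 0 ⊕ Fin 0) ⊕ Fin 2) F := h.1.1 with hM
  have hMQ : ∀ v, Cfsg.quadFormMinus 0 F 1 μ (M.mulVec v) = Cfsg.quadFormMinus 0 F 1 μ v := fun v => h.2 v v
  have hMo : orderOf M = Nat.card F + 1 := by
    rw [hM, orderOf_units, Subgroup.orderOf_coe, hho]
  refine Elt.of (V := (Fin 0 ⊕ Fin 0) ⊕ Fin 2 → F) (Q := minusForm 0 F 1 μ) (g := Matrix.toLinAlgEquiv' M)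
    (nondeg_minusForm 0 F 1 μ hμ) (hasSign_minusForm 0 hμ) ?_ (Nat.succ_pos _) ?_
  · intro v
    rw [coe_minusForm]
    exact hMQ v
  · rw [← hMo]
    exact MulEquiv.orderOf_eq (Matrix.toLinAlgEquiv' : Matrix _ _ F ≃ₐ[F] _).toMulEquiv M

/-- Split tori. -/
theorem elt_tor_plus {k N : ℕ} (hk : 1 ≤ k) (hN : N ∣ Nat.card F ^ k - 1) : Elt F k 1 N := by
  haveI : Fact (Nat.Prime 2) := ⟨Nat.prime_two⟩
  haveI : NeZero k := ⟨by omega⟩
  have h := Elt.res (F := F) (elt_hyp (F := FiniteField.Extension F 2 k) (N := N) (by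
    rwa [FiniteField.natCard_extension]))
  rwa [FiniteField.finrank_extension, mul_one] at h

/-- Nonsplit tori. -/
theorem elt_tor_minus {k N : ℕ} (hk : 1 ≤ k) (hN : N ∣ Nat.card F ^ k + 1) : Elt F k (-1) N := by
  haveI : Fact (Nat.Prime 2) := ⟨Nat.prime_two⟩
  haveI : NeZero k := ⟨by omega⟩
  haveI : CharP (FiniteField.Extension F 2 k) 2 :=
    charP_of_injective_algebraMap (algebraMap F (FiniteField.Extension F 2 k)).injective 2
  have h := Elt.res (F := F) (elt_ell (F := FiniteField.Extension F 2 k) (N := N) (by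
    rwa [FiniteField.natCard_extension]))
  rwa [FiniteField.finrank_extension, mul_one] at h

/-! ### Regular unipotent elements -/

variable (F) in
/-- There is a nondegenerate form of sign `ε` in dimension `2m` with an isometry `1 + T`, `T ^ (2m) = 0`,
`T ^ (2m - 1) ≠ 0`. -/
def Uni (m : ℕ) (ε : ℤ) : Prop :=
  ∃ (d : ℕ) (Q : QuadraticForm F (Fin d → F)) (T : Module.End F (Fin d → F)),
    Nondeg Q ∧ HasSign (⇑Q) m ε ∧ (∀ v, Q (v + T v) = Q v) ∧ T ^ (2 * m) = 0 ∧
      ∃ w, polar Q ((T ^ (2 * m - 1)) w) w ≠ 0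

theorem Uni.of {V : Type*} [AddCommGroup V] [Module F V] [Finite V] {Q : QuadraticForm F V} {T : Module.End F V}
    (hQ : Nondeg Q) {m : ℕ} {ε : ℤ} (hs : HasSign (⇑Q) m ε) (hT : ∀ v, Q (v + T v) = Q v) (h0 : T ^ (2 * m) = 0)
    (w : V) (hw : polar Q ((T ^ (2 * m - 1)) w) w ≠ 0) : Uni F m ε := by
  have : Module.Finite F V := Module.Finite.of_finite
  let e : V ≃ₗ[F] (Fin (Module.finrank F V) → F) := (Module.finBasis F V).equivFun
  have hpow : ∀ k, (e.conj T) ^ k = e.conj (T ^ k) := by
    intro k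
    change (LinearEquiv.conjRingEquiv e T) ^ k = LinearEquiv.conjRingEquiv e (T ^ k)
    rw [map_pow]
  refine ⟨Module.finrank F V, Q.comp (e.symm : _ →ₗ[F] V), e.conj T, ?_, ?_, ?_, ?_, e w, ?_⟩
  · intro x hx
    have h1 : e.symm x = 0 := by
      apply hQ
      intro y
      have := hx (e y)
      change Q (e.symm (x + e y)) - Q (e.symm x) - Q (e.symm (e y)) = 0 at this
      rw [map_add, LinearEquiv.symm_apply_apply] at this
      exact this
    exact (LinearEquiv.map_eq_zero_iff _).1 h1
  · refine hs.congr e.toEquiv fun v => ?_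
    change Q (e.symm (e v)) = Q v
    rw [LinearEquiv.symm_apply_apply]
  · intro v
    change Q (e.symm (v + e (T (e.symm v)))) = Q (e.symm v)
    rw [map_add, LinearEquiv.symm_apply_apply, hT]
  · rw [hpow, h0, map_zero]
  · rw [hpow]
    change Q (e.symm (e ((T ^ (2 * m - 1)) (e.symm (e w))) + e w)) - Q (e.symm (e ((T ^ (2 * m - 1)) (e.symm (e w)))))
      - Q (e.symm (e w)) ≠ 0
    rw [map_add, LinearEquiv.symm_apply_apply, LinearEquiv.symm_apply_apply]
    exact hw

theorem uni_one_plus : Uni F 1 1 := by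
  let Q : QuadraticForm F (F × F) := QuadraticMap.linMulLin (LinearMap.fst F F F) (LinearMap.snd F F F)
  have hQ : ∀ v : F × F, Q v = v.1 * v.2 := fun v => rfl
  have h2 : (2 : F) = 0 := CharTwo.two_eq_zero
  let T : Module.End F (F × F) :=
    (LinearMap.fst F F F + LinearMap.snd F F F).prod (LinearMap.fst F F F + LinearMap.snd F F F)
  have hT : ∀ v : F × F, T v = (v.1 + v.2, v.1 + v.2) := fun v => rfl
  refine Uni.of (Q := Q) (T := T) ?_ hasSign_mul ?_ ?_ (1, 0) ?_
  · intro x hx
    have h1 := hx (0, 1)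
    have h2 := hx (1, 0)
    simp only [polar, hQ, Prod.fst_add, Prod.snd_add] at h1 h2
    refine Prod.ext ?_ ?_
    · change x.1 = 0
      linear_combination h1
    · change x.2 = 0
      linear_combination h2
  · intro v
    rw [hT, hQ, hQ]
    simp only [Prod.fst_add, Prod.snd_add]
    linear_combination (v.1 ^ 2 + v.2 ^ 2 + 2 * v.1 * v.2) * h2
  · refine LinearMap.ext fun v => ?_
    rw [mul_one, pow_two, Module.End.mul_apply, hT, hT]
    refine Prod.ext ?_ ?_
    · change v.1 + v.2 + (v.1 + v.2) = 0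
      linear_combination (v.1 + v.2) * h2
    · change v.1 + v.2 + (v.1 + v.2) = 0
      linear_combination (v.1 + v.2) * h2
  · rw [show 2 * 1 - 1 = 1 from rfl, pow_one, hT]
    simp only [polar, hQ, Prod.fst_add, Prod.snd_add]
    ring_nf
    exact one_ne_zero

theorem uni_one_minus : Uni F 1 (-1) := by
  obtain ⟨μ, hμ⟩ := exists_aniso (F := F)
  have h2 : (2 : F) = 0 := CharTwo.two_eq_zero
  have hQ : ∀ v, minusForm 0 F 1 μ v = v (.inr 0) ^ 2 + v (.inr 0) * v (.inr 1) + μ * v (.inr 1) ^ 2 := by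
    intro v
    rw [coe_minusForm, quadFormMinus_apply]
    simp
  let T : Module.End F ((Fin 0 ⊕ Fin 0) ⊕ Fin 2 → F) :=
    LinearMap.pi (Sum.elim (fun _ => 0) ![LinearMap.proj (.inr 1), 0])
  have hT0 : ∀ v, T v (.inr 0) = v (.inr 1) := fun v => rfl
  have hT1 : ∀ v, T v (.inr 1) = 0 := fun v => rfl
  have hTl : ∀ v i, T v (.inl i) = 0 := fun v i => rfl
  refine Uni.of (Q := minusForm 0 F 1 μ) (T := T) (nondeg_minusForm 0 F 1 μ hμ) (hasSign_minusForm 0 hμ) ?_ ?_
    (Sum.elim (fun _ => 0) ![0, 1]) ?_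
  · intro v
    rw [hQ, hQ]
    simp only [Pi.add_apply, hT0, hT1]
    linear_combination (v (.inr 0) * v (.inr 1) + v (.inr 1) ^ 2) * h2
  · refine LinearMap.ext fun v => ?_
    rw [mul_one, pow_two, Module.End.mul_apply]
    funext i
    rcases i with i | i
    · rfl
    · fin_cases i
      · change T (T v) (.inr 0) = 0
        rw [hT0, hT1]
      · rfl
  · rw [show 2 * 1 - 1 = 1 from rfl, pow_one]
    simp only [polar, hQ, Pi.add_apply, hT0, hT1]
    simp only [Sum.elim_inr, Matrix.cons_val_zero, Matrix.cons_val_one]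
    ring_nf
    exact one_ne_zero

end

end Cfsg.Agent.H403
end
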